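import Mathlib
import Groth.Agent.RatCompl.Base
import Groth.Agent.RatCompl.Normal
import Groth.Agent.RatCompl.Cpl
import Groth.Agent.DoublePt.Blow
import Groth.Agent.FlatLoc6.SerreNormal
import Groth.Agent.Hensel.DepthFlat
import Groth.Agent.Alg6.LocLoc
import Groth.Agent.S2652

/-!
# Normality ascends to the base change to a completion
-/

set_option autoImplicit false
set_option linter.style.haveILetI false
set_option linter.unusedSectionVars false
set_option backward.isDefEq.respectTransparency false
set_option backward.isDefEq.respectTransparency.types false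
set_option maxHeartbeats 800000

universe u

open CategoryTheory CategoryTheory.Limits AlgebraicGeometry TopologicalSpace IsLocalRing
open Groth.Agent.H23.StalkPrimes Groth.Agent.CDiv6

noncomputable section

namespace Groth.Agent.RegModel

/-- The local conditions of Serre's criterion. -/
def Good (S : Type u) [CommRing S] [IsLocalRing S] : Prop :=
  (ringKrullDim S ≤ 1 → IsRegularLocalRing S) ∧
    min (2 : WithBot ℕ∞) (ringKrullDim S) ≤ ((LocCoh.depth S S : ℕ∞) : WithBot ℕ∞)

theorem good_of_normal (S : Type u) [CommRing S] [IsLocalRing S] [IsNoetherianRing S] [IsDomain S]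
    [IsIntegrallyClosed S] : Good S :=
  ⟨fun h => FlatLoc6.regular_of_normal S h, FlatLoc6.depth_of_normal S⟩

theorem Good.of_ringEquiv {S T : Type u} [CommRing S] [CommRing T] [IsLocalRing S] [IsLocalRing T]
    (e : S ≃+* T) (h : Good S) : Good T := by
  refine ⟨fun hd => ?_, ?_⟩
  · haveI := h.1 ((ringKrullDim_eq_of_ringEquiv e).trans_le hd)
    exact IsRegularLocalRing.of_ringEquiv e
  · rw [← ringKrullDim_eq_of_ringEquiv e,
      ← Alg6.depth_eq_of_semilinear e.toRingHom e.surjective e.toAddEquiv fun r x => map_mul e r x]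
    exact h.2

theorem Good.of_mapMax {S T : CommRingCat.{u}} [IsLocalRing S] [IsLocalRing T] [IsNoetherianRing S]
    [IsNoetherianRing T] (g : S ⟶ T) [hl : IsLocalHom g.hom] (hfl : g.hom.Flat)
    (hm : CplRegular.MapMax g) (h : Good S) : Good T := by
  refine ⟨fun hd => ?_, ?_⟩
  · haveI := h.1 ((RatCompl.dim_eq_of_mapMax g hfl hm).symm.trans_le hd)
    exact RatCompl.regular_of_mapMax g hfl hm
  · rw [RatCompl.dim_eq_of_mapMax g hfl hm]
    letI := g.hom.toAlgebra
    haveI : Module.Flat S T := hfl
    haveI : IsLocalHom (algebraMap S T) := hl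
    rw [Hensel.depth_eq_of_flat_of_map_maximalIdeal_eq T hm]
    exact h.2

/-- A scheme whose local rings all satisfy the conditions is normal. -/
theorem normal_of_good (Y : Scheme.{u}) [IsLocallyNoetherian Y] (h : ∀ y : Y, Good (Y.presheaf.stalk y)) :
    Pi1.IsNormalScheme Y := by
  intro y
  have key : ∀ (p : Ideal (Y.presheaf.stalk y)) [p.IsPrime], Good (Localization.AtPrime p) := by
    intro p _
    obtain ⟨z, hz, rfl⟩ := exists_point p
    letI := (Y.presheaf.stalkSpecializes hz).hom.toAlgebra
    haveI := isLocalization_primeOf hz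
    exact (h z).of_ringEquiv (IsLocalization.algEquiv (primeOf hz).asIdeal.primeCompl
      (Y.presheaf.stalk z) (Localization.AtPrime (primeOf hz).asIdeal)).toRingEquiv
  refine FlatLoc6.normal_of_R1_S2 (fun p _ hp => (key p).1 ?_) ((FlatLoc6.hasSk_self_iff 2).2 fun p _ => ?_)
  · rw [IsLocalization.AtPrime.ringKrullDim_eq_height p]
    exact_mod_cast hp
  · have := (key p).2
    rw [IsLocalization.AtPrime.ringKrullDim_eq_height p,
      show (2 : WithBot ℕ∞) = ((2 : ℕ∞) : WithBot ℕ∞) from rfl, ← WithBot.coe_min, WithBot.coe_le_coe] at this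
    exact this

variable {A : Type u} [CommRing A] [IsLocalRing A] [IsNoetherianRing A]

/-- The base change to the completion. -/
abbrev cA (A : Type u) [CommRing A] [IsLocalRing A] :
    Spec (CommRingCat.of (Curv2.cpl A)) ⟶ Spec (CommRingCat.of A) :=
  RatCompl.cR A (Curv2.cpl A)

variable {X : Scheme.{u}} (q : X ⟶ Spec (CommRingCat.of A))

instance flat_cA : Flat (cA A) := by
  haveI : Module.Flat A (Curv2.cpl A) := AdicCompletion.flat_of_isNoetherian _
  exact RatCompl.flat_cR

theorem unr_fst {y : ↥(pullback q (cA A))} (hy : q (pullback.fst q (cA A) y) = closedPoint A) :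
    RatCompl.Unr ((pullback.fst q (cA A)).stalkMap y) :=
  RatCompl.unr_fst A (Curv2.cpl A)
    (fun c => by rw [RatCompl.cpl_maxMap]; exact RatCompl.cpl_resLift A c) q y hy

theorem cA_closedPoint (A : Type u) [CommRing A] [IsLocalRing A] [IsNoetherianRing A] :
    cA A (closedPoint (Curv2.cpl A)) = closedPoint A := by
  refine PrimeSpectrum.ext (le_antisymm (le_maximalIdeal ?_) ?_)
  · exact Ideal.comap_ne_top _ (maximalIdeal.isMaximal (Curv2.cpl A)).ne_top
  · show maximalIdeal A ≤ (maximalIdeal (Curv2.cpl A)).comap (algebraMap A (Curv2.cpl A))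
    rw [← Ideal.map_le_iff_le_comap, RatCompl.cpl_maxMap]

theorem eq_closedPoint {t : ↥(Spec (CommRingCat.of (Curv2.cpl A)))} (h : cA A t = closedPoint A) :
    t = closedPoint (Curv2.cpl A) := by
  refine PrimeSpectrum.ext (le_antisymm (le_maximalIdeal t.2.ne_top) ?_)
  show maximalIdeal (Curv2.cpl A) ≤ _
  rw [← RatCompl.cpl_maxMap, Ideal.map_le_iff_le_comap]
  exact (congrArg PrimeSpectrum.asIdeal h).ge

theorem fst_closed {y : ↥(pullback q (cA A))} :
    q (pullback.fst q (cA A) y) = closedPoint A ↔ pullback.snd q (cA A) y = closedPoint (Curv2.cpl A) := by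
  rw [← Scheme.Hom.comp_apply, pullback.condition, Scheme.Hom.comp_apply]
  exact ⟨eq_closedPoint, fun h => by rw [h]; exact cA_closedPoint A⟩

variable [LocallyOfFiniteType q]

instance isLocallyNoetherian_bc : IsLocallyNoetherian (pullback q (cA A)) := by
  haveI : IsNoetherianRing (Curv2.cpl A) := FlatLoc6.isNoetherianRing_cpl A
  exact LocallyOfFiniteType.isLocallyNoetherian (pullback.snd q (cA A))

/-- Normality ascends to the base change to the completion, given normality off the closed fibre. -/
theorem normal_bc (hX : Pi1.IsNormalScheme X)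
    (hoff : ∀ y : ↥(pullback q (cA A)), pullback.snd q (cA A) y ≠ closedPoint (Curv2.cpl A) →
      IsDomain ((pullback q (cA A)).presheaf.stalk y) ∧ IsIntegrallyClosed ((pullback q (cA A)).presheaf.stalk y)) :
    Pi1.IsNormalScheme (pullback q (cA A)) := by
  haveI : IsLocallyNoetherian X := LocallyOfFiniteType.isLocallyNoetherian q
  refine normal_of_good _ fun y => ?_
  by_cases hy : pullback.snd q (cA A) y = closedPoint (Curv2.cpl A)
  · haveI := (hX (pullback.fst q (cA A) y)).1
    haveI := (hX (pullback.fst q (cA A) y)).2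
    exact (good_of_normal _).of_mapMax _ (Flat.stalkMap _ y) (unr_fst q ((fst_closed q).2 hy)).1
  · haveI := (hoff y hy).1
    haveI := (hoff y hy).2
    exact good_of_normal _

/-- Completions of normal local rings over the closed point are normal domains. -/
theorem cpl_normal_closed (hX : Pi1.IsNormalScheme X)
    (hoff : ∀ y : ↥(pullback q (cA A)), pullback.snd q (cA A) y ≠ closedPoint (Curv2.cpl A) →
      IsDomain ((pullback q (cA A)).presheaf.stalk y) ∧ IsIntegrallyClosed ((pullback q (cA A)).presheaf.stalk y))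
    (x : X) (hx : q x = closedPoint A) :
    IsDomain (Curv2.cpl (X.presheaf.stalk x)) ∧ IsIntegrallyClosed (Curv2.cpl (X.presheaf.stalk x)) := by
  haveI : IsLocallyNoetherian X := LocallyOfFiniteType.isLocallyNoetherian q
  obtain ⟨y, rfl, hy⟩ := Scheme.Pullback.exists_preimage_pullback (f := q) (g := cA A) x
    (closedPoint (Curv2.cpl A)) (by rw [hx, cA_closedPoint A])
  haveI := (normal_bc q hX hoff y).1
  haveI := (normal_bc q hX hoff y).2
  haveI : IsNoetherianRing (Curv2.cpl A) := FlatLoc6.isNoetherianRing_cpl A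
  haveI : IsAdicComplete (maximalIdeal (Curv2.cpl A)) (Curv2.cpl A) :=
    AdicCompletion.isAdicComplete_of_fg (IsNoetherian.noetherian _)
  have hexc := RatCompl.isExcellent_stalk (S2652.result (Curv2.cpl A)) (pullback.snd q (cA A)) y
  haveI := GrLib8.HlvtNormal.isDomain_completion _ hexc
  haveI := RatCompl.isIntegrallyClosed_completion _ hexc
  obtain ⟨e⟩ := RatCompl.exists_cplEquiv ((pullback.fst q (cA A)).stalkMap y) (Flat.stalkMap _ y)
    (unr_fst q hx)
  exact ⟨e.symm.toMulEquiv.isDomain _, IsIntegrallyClosed.of_equiv e⟩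

omit [IsLocalRing A] [IsNoetherianRing A] in
/-- Completions of normal local rings of schemes of finite type over a field are normal domains. -/
theorem cpl_normal_field {K : Type u} [Field K] {V : Scheme.{u}} (f : V ⟶ Spec (CommRingCat.of K))
    [LocallyOfFiniteType f] (hV : Pi1.IsNormalScheme V) (v : V) :
    IsDomain (Curv2.cpl (V.presheaf.stalk v)) ∧ IsIntegrallyClosed (Curv2.cpl (V.presheaf.stalk v)) := by
  haveI : IsLocallyNoetherian V := LocallyOfFiniteType.isLocallyNoetherian f
  haveI := (hV v).1
  haveI := (hV v).2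
  haveI : IsAdicComplete (maximalIdeal K) K := by
    rw [IsLocalRing.isField_iff_maximalIdeal_eq.1 (Field.toIsField K)]
    infer_instance
  have hexc := RatCompl.isExcellent_stalk (S2652.result K) f v
  exact ⟨GrLib8.HlvtNormal.isDomain_completion _ hexc, RatCompl.isIntegrallyClosed_completion _ hexc⟩

end Groth.Agent.RegModel
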