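import Mathlib
import Groth.Agent.RegModel.Ascend
import Groth.Agent.MinModel.Basic
import Groth.Agent.S0549

/-!
# The base change of a model to the completion, off the closed fibre
-/

set_option autoImplicit false
set_option linter.style.haveILetI false
set_option linter.unusedSectionVars false
set_option backward.isDefEq.respectTransparency false
set_option backward.isDefEq.respectTransparency.types false
set_option maxHeartbeats 800000

universe u

open CategoryTheory CategoryTheory.Limits AlgebraicGeometry TopologicalSpace IsLocalRing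
open Groth.Agent.MinModel (jη isOpenImmersion_jη range_jη)

noncomputable section

namespace Groth.Agent.RegModel

variable (R : Type u) [CommRing R] [IsDomain R] [IsDiscreteValuationRing R]

instance isDomain_cpl_dvr : IsDomain (Curv2.cpl R) := ((S0549.result R).1 ⟨inferInstance, inferInstance⟩).fst

instance isDVR_cpl : IsDiscreteValuationRing (Curv2.cpl R) :=
  ((S0549.result R).1 ⟨inferInstance, inferInstance⟩).snd

theorem injective_toFractionCpl :
    Function.Injective ((algebraMap (Curv2.cpl R) (FractionRing (Curv2.cpl R))).comp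
      (algebraMap R (Curv2.cpl R))) :=
  (IsFractionRing.injective (Curv2.cpl R) (FractionRing (Curv2.cpl R))).comp
    (AdicCompletion.of_injective (maximalIdeal R) R)

/-- The extension of fraction fields. -/
def KK : FractionRing R →+* FractionRing (Curv2.cpl R) := IsFractionRing.lift (injective_toFractionCpl R)

/-- The morphism of generic points. -/
abbrev cK : Spec (CommRingCat.of (FractionRing (Curv2.cpl R))) ⟶ Spec (CommRingCat.of (FractionRing R)) :=
  Spec.map (CommRingCat.ofHom (KK R))

theorem specMap_square {A B C D : Type u} [CommRing A] [CommRing B] [CommRing C] [CommRing D]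
    (i : A →+* B) (φ : A →+* C) (k : B →+* D) (j : C →+* D) (h : ∀ a, k (i a) = j (φ a)) :
    Spec.map (CommRingCat.ofHom k) ≫ Spec.map (CommRingCat.ofHom i) =
      Spec.map (CommRingCat.ofHom j) ≫ Spec.map (CommRingCat.ofHom φ) := by
  rw [← Spec.map_comp, ← Spec.map_comp]
  congr 1
  exact CommRingCat.hom_ext (RingHom.ext h)

theorem cK_jη : cK R ≫ jη R = jη (Curv2.cpl R) ≫ cA R :=
  specMap_square (algebraMap R (FractionRing R)) (algebraMap R (Curv2.cpl R)) (KK R)
    (algebraMap (Curv2.cpl R) (FractionRing (Curv2.cpl R)))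
    (IsFractionRing.lift_algebraMap (injective_toFractionCpl R))

variable {R}

theorem eq_generic_or_closed (t : ↥(Spec (CommRingCat.of R))) :
    t = genericPoint ↥(Spec (CommRingCat.of R)) ∨ t = closedPoint R := by
  by_cases h : t.asIdeal = ⊥
  · left
    rw [genericPoint_eq_bot_of_affine (CommRingCat.of R)]
    exact PrimeSpectrum.ext h
  · right
    exact PrimeSpectrum.ext (IsLocalRing.eq_maximalIdeal (t.2.isMaximal h))

variable {X C : Scheme.{u}} (p : X ⟶ Spec (CommRingCat.of R)) (f : C ⟶ Spec (CommRingCat.of (FractionRing R)))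
  (g : C ⟶ X) (sq : IsPullback g f p (jη R))

include sq in
/-- Off the closed fibre the local rings of the base change are those of the generic fibre. -/
theorem exists_stalk_iso_off (y : ↥(pullback p (cA R)))
    (hy : pullback.snd p (cA R) y ≠ closedPoint (Curv2.cpl R)) :
    ∃ w : ↥(pullback f (cK R)), Nonempty ((pullback p (cA R)).presheaf.stalk y ≅ (pullback f (cK R)).presheaf.stalk w) := by
  have s1 : IsPullback (pullback.fst f (cK R) ≫ g) (pullback.snd f (cK R)) p (cK R ≫ jη R) :=
    (IsPullback.of_hasPullback f (cK R)).paste_horiz sq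
  rw [cK_jη] at s1
  let h : pullback f (cK R) ⟶ pullback p (cA R) :=
    pullback.lift (pullback.fst f (cK R) ≫ g) (pullback.snd f (cK R) ≫ jη (Curv2.cpl R))
      (by rw [Category.assoc]; exact s1.w)
  have s2 : IsPullback h (pullback.snd f (cK R)) (pullback.snd p (cA R)) (jη (Curv2.cpl R)) := by
    refine IsPullback.of_right ?_ (pullback.lift_snd _ _ _) (IsPullback.of_hasPullback p (cA R))
    rw [pullback.lift_fst]
    exact s1
  haveI : IsOpenImmersion h := MorphismProperty.of_isPullback s2.flip (isOpenImmersion_jη (Curv2.cpl R))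
  obtain ⟨a, ha⟩ := (range_jη (Curv2.cpl R)).ge
    (Set.mem_singleton_iff.2 ((eq_generic_or_closed (pullback.snd p (cA R) y)).resolve_right hy))
  obtain ⟨w, hw, -⟩ := Scheme.Pullback.exists_preimage_pullback y a ha.symm
  refine ⟨s2.isoPullback.inv w, ⟨?_⟩⟩
  have e : h (s2.isoPullback.inv w) = y := by
    rw [← Scheme.Hom.comp_apply, IsPullback.isoPullback_inv_fst]
    exact hw
  exact (pullback p (cA R)).presheaf.stalkCongr (.of_eq e.symm) ≪≫ asIso (h.stalkMap _)

/-- A morphism which is an isomorphism over the range of an open immersion lifts it. -/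
theorem exists_lift {X' : Scheme.{u}} (ι : X' ⟶ X) [IsOpenImmersion g] [IsIso (ι ∣_ g.opensRange)] :
    ∃ g' : C ⟶ X', IsPullback g' (𝟙 C) ι g := by
  refine ⟨g.isoOpensRange.hom ≫ inv (ι ∣_ g.opensRange) ≫ (ι ⁻¹ᵁ g.opensRange).ι, ?_⟩
  refine (isPullback_morphismRestrict ι g.opensRange).flip.of_iso
    (asIso (ι ∣_ g.opensRange) ≪≫ g.isoOpensRange.symm) (Iso.refl _) g.isoOpensRange.symm (Iso.refl _)
    ?_ ?_ ?_ ?_
  · simp
  · simp
  · simp
  · simp

end Groth.Agent.RegModel
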