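import Mathlib
import Groth.Agent.RegModel.OffFibre
import Groth.Agent.S7327
import Groth.Agent.Synt29.Normalization
import Groth.Agent.NormCurve.Normal

/-!
# The normalization of a model of a geometrically normal variety
-/

set_option autoImplicit false
set_option linter.style.haveILetI false
set_option linter.unusedSectionVars false
set_option backward.isDefEq.respectTransparency false
set_option backward.isDefEq.respectTransparency.types false
set_option maxHeartbeats 800000

universe u

open CategoryTheory CategoryTheory.Limits AlgebraicGeometry TopologicalSpace IsLocalRing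
open Groth.Agent.MinModel (jη isOpenImmersion_jη range_jη)

noncomputable section

namespace Groth.Agent.RegModel

theorem normal_of_iso {X Y : Scheme.{u}} (e : X ⟶ Y) [IsIso e] (h : Pi1.IsNormalScheme X) :
    Pi1.IsNormalScheme Y := fun y => by
  obtain ⟨x, rfl⟩ := (ConcreteCategory.bijective_of_isIso e.base).2 y
  let ε := (asIso (e.stalkMap x)).commRingCatIsoToRingEquiv
  haveI := (h x).1
  haveI := (h x).2
  exact ⟨ε.toMulEquiv.isDomain, IsIntegrallyClosed.of_equiv ε.symm⟩

theorem normal_of_iso_stalk {X Y : Scheme.{u}} {x : X} {y : Y} (e : X.presheaf.stalk x ≅ Y.presheaf.stalk y)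
    (h : IsDomain (Y.presheaf.stalk y) ∧ IsIntegrallyClosed (Y.presheaf.stalk y)) :
    IsDomain (X.presheaf.stalk x) ∧ IsIntegrallyClosed (X.presheaf.stalk x) := by
  haveI := h.1
  haveI := h.2
  exact ⟨e.commRingCatIsoToRingEquiv.toMulEquiv.isDomain,
    IsIntegrallyClosed.of_equiv e.commRingCatIsoToRingEquiv.symm⟩

variable {R : Type u} [CommRing R] [IsDomain R] [IsDiscreteValuationRing R] {V X : Scheme.{u}}
  (f : V ⟶ Spec (CommRingCat.of (FractionRing R))) (p : X ⟶ Spec (CommRingCat.of R)) [LocallyOfFiniteType p]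
  [IsIntegral V] [IsIntegral X] (g : V ⟶ X) (sq : IsPullback g f p (jη R)) (hV : Pi1.IsNormalScheme V)
  (hb : ∀ w : ↥(pullback f (cK R)), IsDomain ((pullback f (cK R)).presheaf.stalk w) ∧
    IsIntegrallyClosed ((pullback f (cK R)).presheaf.stalk w))
  [QuasiCompact (X.fromSpecStalk (genericPoint X))] [QuasiSeparated (X.fromSpecStalk (genericPoint X))]

include sq hb in
theorem isFinite_normalization : IsFinite (Curv2.normalizationι X) := by
  refine S7327.result R X p fun y hy => ?_
  obtain ⟨w, ⟨e⟩⟩ := exists_stalk_iso_off p f g sq y hy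
  exact normal_of_iso_stalk e (hb w)

include sq hV in
theorem isIso_over_generic :
    ∃ _ : IsOpenImmersion g, IsIso (Curv2.normalizationι X ∣_ g.opensRange) := by
  haveI : IsOpenImmersion g := MorphismProperty.of_isPullback sq.flip (isOpenImmersion_jη R)
  refine ⟨inferInstance, Synt29.isIso_normalizationι_restrict g.opensRange ⟨_, genericPoint V, rfl⟩ ?_⟩
  rintro _ ⟨v, rfl⟩
  haveI := (hV v).2
  exact IsIntegrallyClosed.of_equiv (asIso (g.stalkMap v)).commRingCatIsoToRingEquiv.symm

include sq hV in
/-- The generic fibre of the normalization. -/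
theorem exists_square :
    ∃ g' : V ⟶ Curv2.normalization X, IsPullback g' f (Curv2.normalizationι X ≫ p) (jη R) ∧
      g' ≫ Curv2.normalizationι X = g := by
  obtain ⟨_, hiso⟩ := isIso_over_generic f p g sq hV
  haveI := hiso
  obtain ⟨g', h⟩ := exists_lift g (Curv2.normalizationι X)
  have h' := h.paste_vert sq
  rw [Category.id_comp] at h'
  exact ⟨g', h', h.w.trans (Category.id_comp g)⟩

omit [LocallyOfFiniteType p] [IsIntegral V] [IsIntegral X]
  [QuasiCompact (X.fromSpecStalk (genericPoint X))] [QuasiSeparated (X.fromSpecStalk (genericPoint X))] in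
/-- Completions of the local rings of a normal model are normal domains. -/
theorem cpl_normal {X' : Scheme.{u}} (q : X' ⟶ Spec (CommRingCat.of R)) [LocallyOfFiniteType q]
    [LocallyOfFiniteType f] (g' : V ⟶ X') (sq' : IsPullback g' f q (jη R)) (hV' : Pi1.IsNormalScheme V)
    (hb' : ∀ w : ↥(pullback f (cK R)), IsDomain ((pullback f (cK R)).presheaf.stalk w) ∧
      IsIntegrallyClosed ((pullback f (cK R)).presheaf.stalk w))
    (hX' : Pi1.IsNormalScheme X') (x : X') :
    IsDomain (Curv2.cpl (X'.presheaf.stalk x)) ∧ IsIntegrallyClosed (Curv2.cpl (X'.presheaf.stalk x)) := by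
  haveI : IsOpenImmersion g' := MorphismProperty.of_isPullback sq'.flip (isOpenImmersion_jη R)
  haveI : IsLocallyNoetherian X' := LocallyOfFiniteType.isLocallyNoetherian q
  haveI : IsLocallyNoetherian V := LocallyOfFiniteType.isLocallyNoetherian f
  by_cases hx : q x = closedPoint R
  · refine cpl_normal_closed q hX' (fun y hy => ?_) x hx
    obtain ⟨w, ⟨e⟩⟩ := exists_stalk_iso_off q f g' sq' y hy
    exact normal_of_iso_stalk e (hb' w)
  · obtain ⟨a, ha⟩ := (range_jη R).ge (Set.mem_singleton_iff.2 ((eq_generic_or_closed (q x)).resolve_right hx))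
    obtain ⟨w, hw, -⟩ := Scheme.Pullback.exists_preimage_pullback x a ha.symm
    have e : g' (sq'.isoPullback.inv w) = x := by
      rw [← Scheme.Hom.comp_apply, IsPullback.isoPullback_inv_fst]
      exact hw
    rw [← e]
    exact DoublePt.cpl_normal_of_iso (inv (g'.stalkMap (sq'.isoPullback.inv w))) (cpl_normal_field f hV' _)

end Groth.Agent.RegModel
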