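import Mathlib
import Groth.Agent.RegModel.Normalization
import Groth.Agent.H26.DedMin.Closure
import Groth.Agent.SurfRes.Completion
import Groth.Agent.SurfRes.Basic
import Groth.Agent.GrpSchLib.SmoothRegular
import Groth.Agent.DescLib.SubtrVal
import Groth.Prelude.Def_Models
import Groth.Prelude.Def_Curve

/-!
# Existence of regular proper models
-/

set_option autoImplicit false
set_option linter.style.haveILetI false
set_option linter.unusedSectionVars false
set_option backward.isDefEq.respectTransparency false
set_option backward.isDefEq.respectTransparency.types false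
set_option maxHeartbeats 800000

universe u

open CategoryTheory CategoryTheory.Limits AlgebraicGeometry TopologicalSpace IsLocalRing
open Groth.Agent.MinModel (jη isOpenImmersion_jη range_jη)
open Groth.Agent.NormSeq (Nice)

noncomputable section

namespace Groth.Agent.RegModel

theorem normal_of_regular {S : Type u} [CommRing S] (h : IsRegularLocalRing S) : IsDomain S ∧ IsIntegrallyClosed S := by
  haveI := h
  haveI := RegLoc6.isDomain_of_isRegularLocalRing S
  exact ⟨inferInstance, RegLoc6.isIntegrallyClosed_of_isRegularLocalRing S⟩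

variable {R : Type u} [CommRing R] [IsDomain R] [IsDiscreteValuationRing R] {C X : Scheme.{u}}
  (f : C ⟶ Spec (CommRingCat.of (FractionRing R))) [Smooth f]
  (p : X ⟶ Spec (CommRingCat.of R)) [LocallyOfFiniteType p] [QuasiCompact p]
  (g : C ⟶ X) (sq : IsPullback g f p (jη R))

include sq in
theorem regular_off (y : ↥(pullback p (cA R))) (hy : pullback.snd p (cA R) y ≠ closedPoint (Curv2.cpl R)) :
    IsRegularLocalRing ((pullback p (cA R)).presheaf.stalk y) := by
  obtain ⟨w, ⟨e⟩⟩ := exists_stalk_iso_off p f g sq y hy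
  haveI := GrpSchLib.isRegularLocalRing_stalk_of_smooth (pullback.snd f (cK R)) w
  exact IsRegularLocalRing.of_ringEquiv e.commRingCatIsoToRingEquiv.symm

include sq in
/-- A normal model of a smooth curve has finitely many singular points. -/
theorem finite_singular (hN : Nice X) :
    {x : X | ¬ IsRegularLocalRing (X.presheaf.stalk x)}.Finite := by
  haveI := hN.noeth
  let Y := pullback p (cA R)
  let π := pullback.fst p (cA R)
  haveI : IsNoetherianRing (Curv2.cpl R) := FlatLoc6.isNoetherianRing_cpl R
  haveI : CompactSpace Y := QuasiCompact.compactSpace_of_compactSpace (pullback.snd p (cA R))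
  haveI : AlgebraicGeometry.IsNoetherian Y := {}
  haveI : IsAdicComplete (maximalIdeal (Curv2.cpl R)) (Curv2.cpl R) :=
    AdicCompletion.isAdicComplete_of_fg (IsNoetherian.noetherian _)
  have hcl : IsClosed {y : Y | ¬ IsRegularLocalRing (Y.presheaf.stalk y)} :=
    (SurfRes.isOpen_regular (S2652.result (Curv2.cpl R)).2.2.2 (pullback.snd p (cA R))).isClosed_compl
  obtain ⟨T, hTf, -, hTi, hT⟩ := NoetherianSpace.exists_finite_set_isClosed_irreducible hcl
  have hsing : ∀ y : Y, ¬ IsRegularLocalRing (Y.presheaf.stalk y) →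
      ¬ IsRegularLocalRing (X.presheaf.stalk (π y)) := by
    intro y hy hx
    by_cases h : pullback.snd p (cA R) y = closedPoint (Curv2.cpl R)
    · haveI := hx
      exact hy (RatCompl.regular_of_mapMax (π.stalkMap y) (Flat.stalkMap π y) (unr_fst p ((fst_closed p).2 h)).1)
    · exact hy (regular_off f p g sq y h)
  have hsub : {x : X | ¬ IsRegularLocalRing (X.presheaf.stalk x)} ⊆ ⋃ t ∈ T, π '' t := by
    intro x hx
    have hxs : p x = closedPoint R := by
      by_contra h
      haveI : IsOpenImmersion g := MorphismProperty.of_isPullback sq.flip (isOpenImmersion_jη R)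
      obtain ⟨a, ha⟩ := (range_jη R).ge (Set.mem_singleton_iff.2 ((eq_generic_or_closed (p x)).resolve_right h))
      obtain ⟨w, hw, -⟩ := Scheme.Pullback.exists_preimage_pullback x a ha.symm
      have e : g (sq.isoPullback.inv w) = x := by
        rw [← Scheme.Hom.comp_apply, IsPullback.isoPullback_inv_fst]
        exact hw
      refine hx ?_
      rw [← e]
      haveI := GrpSchLib.isRegularLocalRing_stalk_of_smooth f (sq.isoPullback.inv w)
      exact IsRegularLocalRing.of_ringEquiv (asIso (g.stalkMap _)).commRingCatIsoToRingEquiv.symm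
    obtain ⟨y, rfl, hy⟩ := Scheme.Pullback.exists_preimage_pullback (f := p) (g := cA R) x
      (closedPoint (Curv2.cpl R)) (by rw [hxs, cA_closedPoint R])
    have hy' : y ∈ {y : Y | ¬ IsRegularLocalRing (Y.presheaf.stalk y)} := fun hreg => hx (by
      letI := (π.stalkMap y).hom.toAlgebra
      haveI : Module.Flat (X.presheaf.stalk (π y)) (Y.presheaf.stalk y) := Flat.stalkMap π y
      haveI : IsLocalHom (algebraMap (X.presheaf.stalk (π y)) (Y.presheaf.stalk y)) :=
        inferInstanceAs (IsLocalHom (π.stalkMap y).hom)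
      haveI := hreg
      exact RegLoc6.isRegularLocalRing_of_flat (A := X.presheaf.stalk (π y)) (B := Y.presheaf.stalk y))
    rw [hT] at hy'
    obtain ⟨t, ht, hyt⟩ := hy'
    exact Set.mem_biUnion ht ⟨y, hyt, rfl⟩
  refine (hTf.biUnion fun t ht => Set.Subsingleton.finite ?_).subset hsub
  have hts : t ⊆ {y : Y | ¬ IsRegularLocalRing (Y.presheaf.stalk y)} := hT ▸ Set.subset_sUnion_of_mem ht
  obtain ⟨z, hz⟩ : ∃ z, IsGenericPoint z (closure t) := ⟨_, (hTi t ht).isGenericPoint_genericPoint_closure⟩
  have hzS : z ∈ {y : Y | ¬ IsRegularLocalRing (Y.presheaf.stalk y)} :=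
    hcl.closure_subset_iff.2 hts hz.mem
  have hzc : IsClosed ({π z} : Set X) := (DoublePt.dim_of_singular hN (π z) (hsing z hzS)).1
  rintro _ ⟨a, ha, rfl⟩ _ ⟨b, hb, rfl⟩
  have key : ∀ c ∈ t, π c = π z := fun c hc => ((hz.specializes (subset_closure hc)).map π.continuous).mem_closed hzc rfl
  rw [key a ha, key b hb]

omit [Smooth f] [LocallyOfFiniteType p] [QuasiCompact p] in
theorem flat_of_square [IsIntegral C] [IsIntegral X] (sq' : IsPullback g f p (jη R))
    (hgen : g (genericPoint C) = genericPoint X) : Flat p := by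
  refine DescLib.flat_of_dominant_integral p ?_
  have h1 : p (g (genericPoint C)) = genericPoint (Spec (CommRingCat.of R)) := by
    rw [← Scheme.Hom.comp_apply, sq'.w, Scheme.Hom.comp_apply]
    exact H26.HorizDeg.range_specMap_fraction _
  rw [← hgen, h1, genericPoint_eq_bot_of_affine (CommRingCat.of R)]
  rfl

omit [Smooth f] in
/-- Regular proper models of smooth proper curves exist. -/
theorem exists_regularProperModel (hC : Curve.IsSmoothProperCurve (FractionRing R) C f) :
    ∃ (Z : Scheme.{u}) (q : Z ⟶ Spec (CommRingCat.of R)), Models.IsRegularProperModel R Z q C f := by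
  obtain ⟨hfP, hfS, hCint, hdim⟩ := hC
  haveI := hfP
  haveI := hfS
  haveI := hCint
  haveI := isOpenImmersion_jη R
  have hj : ∀ a, jη R a = genericPoint ↥(Spec (CommRingCat.of R)) := H26.HorizDeg.range_specMap_fraction
  haveI : IsNoetherianRing (CommRingCat.of R) := inferInstanceAs (IsNoetherianRing R)
  haveI : IsDomain (CommRingCat.of R) := inferInstanceAs (IsDomain R)
  obtain ⟨Y, hYint, p₀, i, hp₀, sq₀, hgen₀⟩ := H26.DedMin.exists_closure (jη R) f hdim.le
  haveI := hYint
  haveI := hp₀
  haveI : IsLocallyNoetherian Y := LocallyOfFiniteType.isLocallyNoetherian p₀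
  haveI : CompactSpace Y := QuasiCompact.compactSpace_of_compactSpace p₀
  haveI : Y.IsSeparated := ⟨by
    rw [← Limits.terminal.comp_from p₀]
    infer_instance⟩
  haveI : AlgebraicGeometry.IsNoetherian Y := {}
  have hV : Pi1.IsNormalScheme C := fun c =>
    normal_of_regular (GrpSchLib.isRegularLocalRing_stalk_of_smooth f c)
  have hb : ∀ w : ↥(pullback f (cK R)), IsDomain ((pullback f (cK R)).presheaf.stalk w) ∧
      IsIntegrallyClosed ((pullback f (cK R)).presheaf.stalk w) := fun w =>
    normal_of_regular (GrpSchLib.isRegularLocalRing_stalk_of_smooth (pullback.snd f (cK R)) w)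
  haveI hfin := isFinite_normalization f p₀ i sq₀ hb
  haveI := Synt29.isIntegral_normalization Y
  obtain ⟨g, sq, hgι⟩ := exists_square f p₀ i sq₀ hV
  obtain ⟨hνgen, hνbir, hνpre⟩ := Synt29.normalization_generic Y
  haveI : IsLocallyNoetherian (Curv2.normalization Y) :=
    LocallyOfFiniteType.isLocallyNoetherian (Curv2.normalizationι Y)
  haveI : CompactSpace (Curv2.normalization Y) :=
    QuasiCompact.compactSpace_of_compactSpace (Curv2.normalizationι Y)
  haveI : AlgebraicGeometry.IsNoetherian (Curv2.normalization Y) := {}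
  have hn := NormCurve.isNormalScheme_normalization Y
  have hS : topologicalKrullDim ↥(Spec (CommRingCat.of R)) ≤ 1 := by
    refine (PrimeSpectrum.topologicalKrullDim_eq_ringKrullDim (R := R)).trans_le ?_
    exact (IsPrincipalIdealRing.ringKrullDim_eq_one R (IsDiscreteValuationRing.not_isField R)).le
  have hdY : topologicalKrullDim Y ≤ 2 := H26.DedMin.dim_le_two (jη R) hj f p₀ i sq₀ hgen₀ hS hdim
  have hc : ∀ z, IsDomain (Curv2.cpl ((Curv2.normalization Y).presheaf.stalk z)) ∧
      IsIntegrallyClosed (Curv2.cpl ((Curv2.normalization Y).presheaf.stalk z)) :=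
    cpl_normal f (Curv2.normalizationι Y ≫ p₀) g sq hV hb hn
  have hN : Nice (Curv2.normalization Y) :=
    { integral := inferInstance
      noeth := inferInstance
      normal := hn
      fin := fun Z' _ g' _ hg' _ _ => RegRes.isFinite_normalizationι_of_birational g' hg' hn fun z => by
        haveI := (hn z).2
        haveI : IsDomain (EGA4.Cpl ((Curv2.normalization Y).presheaf.stalk z)) := (hc z).1
        haveI : _root_.IsReduced (EGA4.Cpl ((Curv2.normalization Y).presheaf.stalk z)) := inferInstance
        exact NormSeq.finBir_of_isReduced_cpl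
      dim := fun z => (NormSeq.dim_le (Curv2.normalizationι Y) hνbir z).trans
        ((SchTop.ringKrullDim_stalk_le _).trans hdY) }
  have hs := finite_singular f (Curv2.normalizationι Y ≫ p₀) g sq hN
  obtain ⟨Z, h, hZint, hh, hbir, -, hreg⟩ := SurfRes.exists_resolution_cpl _ _ hN hs le_rfl fun z _ => hc z
  haveI := hZint
  haveI := hh
  have hφ : IsIso ((h ≫ Curv2.normalizationι Y).stalkMap (genericPoint Z)) :=
    NormSeq.isIso_stalkMap_comp h _ hbir hνbir
  have hCreg : ∀ c : C, IsRegularLocalRing (C.presheaf.stalk c) ∧ ringKrullDim (C.presheaf.stalk c) ≤ 1 := fun c =>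
    ⟨GrpSchLib.isRegularLocalRing_stalk_of_smooth f c, (SchTop.ringKrullDim_stalk_le c).trans hdim.le⟩
  obtain ⟨k, sqk, -⟩ := H26.DedMin.isPullback_of_modification (jη R) hj hCreg f p₀ i sq₀ hgen₀
    (h ≫ Curv2.normalizationι Y) hφ
  haveI : IsOpenImmersion k := MorphismProperty.of_isPullback sqk.flip (isOpenImmersion_jη R)
  have hflat : Flat ((h ≫ Curv2.normalizationι Y) ≫ p₀) :=
    flat_of_square f _ k sqk (genericPoint_eq_of_isOpenImmersion k)
  exact ⟨Z, (h ≫ Curv2.normalizationι Y) ≫ p₀, ⟨hflat, inferInstance, inferInstance, k, sqk⟩, inferInstance, hreg⟩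

end Groth.Agent.RegModel
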