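import Mathlib
import Groth.Agent.FibrePP.Points
import Groth.Prelude.Def_ModelsG

/-!
# Residue fields over a local base
-/

set_option autoImplicit false
set_option linter.style.haveILetI false
set_option linter.unusedSectionVars false
set_option backward.isDefEq.respectTransparency false
set_option backward.isDefEq.respectTransparency.types false

universe u

open CategoryTheory AlgebraicGeometry IsLocalRing Polynomial

noncomputable section

namespace Groth.Agent.RegModel

variable {R : Type u} [CommRing R]

/-- The two structure maps of a stalk agree. -/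
theorem ι_eq_stalkHom (X : Over (Spec (CommRingCat.of R))) (x : X.left) :
    FibrePP.ι X.hom x = Models.stalkHom R X x := by
  refine congrArg CommRingCat.Hom.hom (?_ : CommRingCat.ofHom (FibrePP.ι X.hom x) =
    CommRingCat.ofHom (Models.stalkHom R X x))
  apply Spec.map_injective
  rw [FibrePP.specMap_ι]
  rw [show CommRingCat.ofHom (Models.stalkHom R X x) =
    (Scheme.ΓSpecIso (CommRingCat.of R)).inv ≫ X.hom.appTop ≫ X.left.presheaf.germ ⊤ x trivial from rfl]
  rw [Spec.map_comp, Spec.map_comp, Category.assoc, ← Scheme.fromSpecStalk_toSpecΓ_assoc,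
    ← Scheme.toSpecΓ_naturality_assoc]
  simp

/-- Structure maps of residue fields are compatible with morphisms over the base. -/
theorem resMap_comp {X Y : Scheme.{u}} (p : X ⟶ Spec (CommRingCat.of R)) (q : Y ⟶ Spec (CommRingCat.of R))
    (b : X ⟶ Y) (h : b ≫ q = p) (x : X) (r : R) :
    (b.residueFieldMap x).hom (FibrePP.resMap q (b x) r) = FibrePP.resMap p x r := by
  have h1 : CommRingCat.ofHom (FibrePP.resMap q (b x)) ≫ b.residueFieldMap x =
      CommRingCat.ofHom (FibrePP.resMap p x) := by
    apply Spec.map_injective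
    rw [Spec.map_comp, FibrePP.specMap_resMap, FibrePP.specMap_resMap,
      Scheme.Hom.SpecMap_residueFieldMap_fromSpecResidueField_assoc, h]
  exact congrArg (fun k => k.hom r) h1

/-- The residue field of a closed point over the closed point is integral over the base. -/
theorem isIntegral_resMap_of_closed [IsLocalRing R] {X : Scheme.{u}} (p : X ⟶ Spec (CommRingCat.of R))
    [LocallyOfFiniteType p] (x : X) (hx : IsClosed ({x} : Set X)) (hs : p x = closedPoint R)
    (z : X.residueField x) : (FibrePP.resMap p x).IsIntegralElem z := by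
  let q := X.fromSpecResidueField x
  haveI : IsClosedImmersion q :=
    IsClosedImmersion.of_isPreimmersion q (by rw [Scheme.range_fromSpecResidueField]; exact hx)
  haveI : LocallyOfFiniteType (Spec.map (CommRingCat.ofHom (FibrePP.resMap p x))) := by
    rw [FibrePP.specMap_resMap]
    infer_instance
  have hft : (FibrePP.resMap p x).FiniteType :=
    (HasRingHomProperty.Spec_iff (P := @LocallyOfFiniteType)).1
      ‹LocallyOfFiniteType (Spec.map (CommRingCat.ofHom (FibrePP.resMap p x)))›
  have hker : ∀ r ∈ maximalIdeal R, FibrePP.resMap p x r = 0 := fun r hr =>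
    (FibrePP.resMap_eq_zero_iff p x r).2 (by rw [hs]; exact hr)
  let χ : ResidueField R →+* X.residueField x := Ideal.Quotient.lift (maximalIdeal R) _ hker
  have hχ : χ.FiniteType := RingHom.FiniteType.of_comp_finiteType (f := IsLocalRing.residue R) hft
  letI := χ.toAlgebra
  haveI : Algebra.FiniteType (ResidueField R) (X.residueField x) := hχ
  haveI : Module.Finite (ResidueField R) (X.residueField x) := finite_of_finite_type_of_isJacobsonRing _ _
  obtain ⟨P, hP, hPz⟩ := (IsIntegral.of_finite (ResidueField R) z)
  obtain ⟨Q, hQ, hQd, hQm⟩ := Polynomial.lifts_and_degree_eq_and_monic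
    (Polynomial.map_surjective (IsLocalRing.residue R) IsLocalRing.residue_surjective P) hP
  refine ⟨Q, hQm, ?_⟩
  rw [← hPz, ← hQ, Polynomial.eval₂_map]
  rfl

/-- An element of the residue field of the generic point which is integral over the base comes from the base,
given a rational normal point. -/
theorem mem_range_of_integral [IsLocalRing R] {Γ : Scheme.{u}} [IsIntegral Γ] (q : Γ ⟶ Spec (CommRingCat.of R)) (a : Γ)
    (hIC : IsIntegrallyClosed (Γ.presheaf.stalk a)) (hres : Function.Surjective (FibrePP.resMap q a))
    (hgen : q (genericPoint Γ) = closedPoint R) (z : Γ.residueField (genericPoint Γ))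
    (hz : (FibrePP.resMap q (genericPoint Γ)).IsIntegralElem z) :
    z ∈ (FibrePP.resMap q (genericPoint Γ)).range := by
  haveI := hIC
  have hsp : genericPoint Γ ⤳ a := genericPoint_specializes a
  let O := Γ.presheaf.stalk a
  let ρ : Γ.functionField →+* Γ.residueField (genericPoint Γ) := (Γ.residue (genericPoint Γ)).hom
  have hρ : Function.Injective ρ := ρ.injective
  obtain ⟨t, rfl⟩ : ∃ t, ρ t = z := IsLocalRing.residue_surjective z
  have hι : ∀ r, algebraMap O Γ.functionField (FibrePP.ι q a r) = FibrePP.ι q (genericPoint Γ) r :=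
    fun r => FibrePP.ι_specializes q hsp r
  have hιc : (algebraMap O Γ.functionField).comp (FibrePP.ι q a) = FibrePP.ι q (genericPoint Γ) :=
    RingHom.ext hι
  obtain ⟨P, hP, hPt⟩ := hz
  have hPt' : P.eval₂ (FibrePP.ι q (genericPoint Γ)) t = 0 := hρ (by
    rw [Polynomial.hom_eval₂, map_zero]
    exact hPt)
  have hto : _root_.IsIntegral O t := ⟨P.map (FibrePP.ι q a), hP.map _, by rw [Polynomial.eval₂_map, hιc]; exact hPt'⟩
  obtain ⟨o, rfl⟩ := IsIntegrallyClosed.isIntegral_iff.1 hto
  obtain ⟨r, hr⟩ := hres ((Γ.residue a).hom o)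
  refine ⟨r, ?_⟩
  set m : O := o - FibrePP.ι q a r
  have hm : m ∈ maximalIdeal O := by
    refine (IsLocalRing.residue_eq_zero_iff m).1 ?_
    show IsLocalRing.residue O (o - FibrePP.ι q a r) = 0
    rw [map_sub, sub_eq_zero]
    exact hr.symm
  have hkill : ∀ r' ∈ maximalIdeal R, FibrePP.ι q a r' = 0 := fun r' hr' => by
    refine IsFractionRing.injective O Γ.functionField ?_
    rw [hι, map_zero]
    refine hρ ?_
    rw [map_zero]
    exact (FibrePP.resMap_eq_zero_iff q (genericPoint Γ) r').2 (by rw [hgen]; exact hr')
  letI := (FibrePP.ι q a).toAlgebra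
  have hPo : Polynomial.aeval o P = 0 := by
    refine IsFractionRing.injective O Γ.functionField ?_
    rw [map_zero, Polynomial.aeval_def, Polynomial.hom_eval₂, show algebraMap R O = FibrePP.ι q a from rfl, hιc]
    exact hPt'
  have hmi : _root_.IsIntegral R m := IsIntegral.sub ⟨P, hP, hPo⟩ isIntegral_algebraMap
  have hm0 : m = 0 := by
    obtain ⟨Q, hQ, hQm⟩ := hmi
    clear hPo
    induction hn : Q.natDegree using Nat.strong_induction_on generalizing Q with
    | _ n ih =>
    rw [← Polynomial.aeval_def] at hQm
    rcases Nat.eq_zero_or_pos Q.natDegree with h0 | hpos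
    · rw [hQ.natDegree_eq_zero.1 h0, map_one] at hQm
      exact absurd hQm one_ne_zero
    have e : m * Polynomial.aeval m Q.divX + algebraMap R O (Q.coeff 0) = 0 := by
      have h := congrArg (Polynomial.aeval m) (Polynomial.X_mul_divX_add Q)
      rwa [map_add, map_mul, Polynomial.aeval_X, Polynomial.aeval_C, hQm] at h
    have hc : Q.coeff 0 ∈ maximalIdeal R := by
      by_contra hu
      have hu' : IsUnit (algebraMap R O (Q.coeff 0)) := (IsLocalRing.notMem_maximalIdeal.1 hu).map _
      refine (maximalIdeal.isMaximal O).ne_top (Ideal.eq_top_of_isUnit_mem _ ?_ hu')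
      rw [eq_neg_of_add_eq_zero_right e]
      exact neg_mem (Ideal.mul_mem_right _ _ hm)
    rw [show algebraMap R O (Q.coeff 0) = 0 from hkill _ hc, add_zero] at e
    rcases mul_eq_zero.1 e with h | h
    · exact h
    have hmon : Q.divX.Monic := by
      rw [Polynomial.Monic, Polynomial.leadingCoeff, Polynomial.natDegree_divX_eq_natDegree_tsub_one,
        Polynomial.coeff_divX, Nat.sub_add_cancel hpos]
      exact hQ
    exact ih Q.divX.natDegree (by rw [Polynomial.natDegree_divX_eq_natDegree_tsub_one]; omega) Q.divX hmon
      (by rw [← Polynomial.aeval_def]; exact h) rfl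
  rw [sub_eq_zero] at hm0
  show ρ (FibrePP.ι q (genericPoint Γ) r) = ρ (algebraMap O Γ.functionField o)
  rw [hm0, hι]

end Groth.Agent.RegModel
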