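import Mathlib
import Groth.Agent.RegModel.ResidueRational
import Groth.Agent.MinModel.Main
import Groth.Agent.H26.FibreIdeal
import Groth.Agent.H26.FibreQuot
import Groth.Agent.RatUp.Sections
import Groth.Agent.RegBlow6.Geometry
import Groth.Agent.H26.ArInter
import Groth.Agent.H23.StalkIdeal
import Groth.Agent.FrobTwist.Invariants

/-!
# Rational smooth points on the special fibre of a model
-/

set_option autoImplicit false
set_option linter.style.haveILetI false
set_option linter.unusedSectionVars false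
set_option backward.isDefEq.respectTransparency false
set_option backward.isDefEq.respectTransparency.types false
set_option maxHeartbeats 800000

universe u

open CategoryTheory CategoryTheory.Limits AlgebraicGeometry TopologicalSpace IsLocalRing
open Groth.Agent.MinModel (Model jη isOpenImmersion_jη range_jη)

noncomputable section

namespace Groth.Agent.RegModel

theorem ι_comp {R : Type u} [CommRing R] {X Y : Scheme.{u}} (p : X ⟶ Spec (CommRingCat.of R))
    (q : Y ⟶ Spec (CommRingCat.of R)) (b : X ⟶ Y) (h : b ≫ q = p) (x : X) (r : R) :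
    (b.stalkMap x).hom (FibrePP.ι q (b x) r) = FibrePP.ι p x r := by
  have h1 : CommRingCat.ofHom (FibrePP.ι q (b x)) ≫ b.stalkMap x = CommRingCat.ofHom (FibrePP.ι p x) := by
    apply Spec.map_injective
    rw [Spec.map_comp, FibrePP.specMap_ι, FibrePP.specMap_ι, Scheme.SpecMap_stalkMap_fromSpecStalk_assoc, h]
  exact congrArg (fun k => k.hom r) h1

/-- An isomorphism on stalks gives one on residue fields. -/
theorem residueFieldMap_surjective {X Y : Scheme.{u}} (b : X ⟶ Y) (x : X)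
    (h : Function.Surjective (b.stalkMap x).hom) : Function.Surjective (b.residueFieldMap x).hom := by
  intro z
  obtain ⟨s, rfl⟩ := IsLocalRing.residue_surjective z
  obtain ⟨t, rfl⟩ := h s
  exact ⟨(Y.residue (b x)).hom t, congrArg (fun k => k.hom t) (Scheme.residue_residueFieldMap b x)⟩

variable {R : Type u} [CommRing R] [IsDomain R] [IsDiscreteValuationRing R]
  {C : Scheme.{u}} {f : C ⟶ Spec (CommRingCat.of (FractionRing R))} [IsIntegral C]

theorem Model.closedPoint_of_ne (N : Model C f) {z : N.Z}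
    (h : N.p z ≠ genericPoint (Spec (CommRingCat.of R))) : N.p z = closedPoint R := by
  by_contra hc
  refine h ?_
  let t : PrimeSpectrum R := N.p z
  by_cases hb : t.asIdeal = ⊥
  · rw [genericPoint_eq_bot_of_affine (CommRingCat.of R)]
    exact PrimeSpectrum.ext hb
  · exact absurd (PrimeSpectrum.ext (IsLocalRing.eq_maximalIdeal (t.2.isMaximal hb))) hc

/-- A component of multiplicity one: the uniformizer generates the maximal ideal of its generic point. -/
theorem maximalIdeal_genPt {X : Over (Spec (CommRingCat.of R))} (Γ : ArSurf.VertComp R X)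
    (hm : Models.mult R X Γ = 1) :
    (maximalIdeal R).map (Models.stalkHom R X (Models.genPtOf R X Γ)) =
      maximalIdeal (X.left.presheaf.stalk (Models.genPtOf R X Γ)) := by
  have h : Module.length (X.left.presheaf.stalk (Models.genPtOf R X Γ))
      (X.left.presheaf.stalk (Models.genPtOf R X Γ) ⧸
        Ideal.map (Models.stalkHom R X (Models.genPtOf R X Γ)) (maximalIdeal R)) = 1 := by
    rcases ENat.toNat_eq_iff one_ne_zero |>.1 hm with h
    exact h
  exact IsLocalRing.eq_maximalIdeal ⟨isSimpleModule_iff_isCoatom.1 (Module.length_eq_one_iff.1 h)⟩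

variable [IsProper f] (hdim : topologicalKrullDim C = 1)

include hdim in
theorem Model.map_genPt (N : Model C f) (Γ : ArSurf.VertComp R (Over.mk N.p)) :
    N.p (Models.genPtOf R (Over.mk N.p) Γ) = closedPoint R := by
  show (Γ.ι ≫ (Over.mk N.p).hom) (genericPoint Γ.curve.left) = _
  rw [Γ.w, Scheme.Hom.comp_apply]
  generalize Γ.curve.hom (genericPoint Γ.curve.left) = w
  refine PrimeSpectrum.ext ?_
  show Ideal.comap (IsLocalRing.residue R) w.asIdeal = IsLocalRing.maximalIdeal R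
  rw [(Ideal.eq_bot_or_top w.asIdeal).resolve_right w.isPrime.ne_top, ← RingHom.ker_eq_comap_bot,
    IsLocalRing.ker_residue]

include hdim in
/-- The generic point of a component of multiplicity one has dimension at most one. -/
theorem Model.dim_genPt_le (N : Model C f) (Γ : ArSurf.VertComp R (Over.mk N.p))
    (hm : Models.mult R (Over.mk N.p) Γ = 1) :
    ringKrullDim (N.Z.presheaf.stalk (Models.genPtOf R (Over.mk N.p) Γ)) ≤ 1 := by
  let O := (Over.mk N.p).left.presheaf.stalk (Models.genPtOf R (Over.mk N.p) Γ)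
  haveI : IsRegularLocalRing O := N.regular _
  obtain ⟨ϖ, hϖ⟩ := IsDiscreteValuationRing.exists_irreducible R
  have h := maximalIdeal_genPt Γ hm
  rw [hϖ.maximalIdeal_eq, Ideal.map_span, Set.image_singleton] at h
  refine (ringKrullDim_le_spanFinrank_maximalIdeal O).trans ?_
  have h1 : (maximalIdeal O).spanFinrank ≤ 1 := by
    rw [← h, Ideal.span]
    exact (Submodule.spanFinrank_span_le_ncard_of_finite (Set.finite_singleton _)).trans (Set.ncard_singleton _).le
  exact_mod_cast h1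

include hdim in
/-- The uniformizer is not in the square of the maximal ideal at a point of dimension at least one
dominated by a component of multiplicity one. -/
theorem Model.notMem_sq (M X M' : Model C f) (r : M'.Z ⟶ M.Z) (hr : r ≫ M.p = M'.p)
    (b : M'.Z ⟶ X.Z) (hb : b ≫ X.p = M'.p) (ξ' : M'.Z) [IsIso (r.stalkMap ξ')]
    (Γ : ArSurf.VertComp R (Over.mk M.p)) (hξ : r ξ' = Models.genPtOf R (Over.mk M.p) Γ)
    (hm : Models.mult R (Over.mk M.p) Γ = 1) {ϖ : R} (hϖ : Irreducible ϖ) :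
    FibrePP.ι X.p (b ξ') ϖ ∉ maximalIdeal (X.Z.presheaf.stalk (b ξ')) ^ 2 := by
  intro hsq
  have h1 : FibrePP.ι M'.p ξ' ϖ ∈ maximalIdeal (M'.Z.presheaf.stalk ξ') ^ 2 := by
    rw [← ι_comp M'.p X.p b hb ξ' ϖ]
    have hle : (maximalIdeal (X.Z.presheaf.stalk (b ξ'))).map (b.stalkMap ξ').hom ≤
        maximalIdeal (M'.Z.presheaf.stalk ξ') :=
      Ideal.map_le_iff_le_comap.2 fun t ht => by
        rw [Ideal.mem_comap, IsLocalRing.mem_maximalIdeal, mem_nonunits_iff]
        intro hu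
        exact ((IsLocalRing.mem_maximalIdeal t).1 ht) (isUnit_of_map_unit (b.stalkMap ξ').hom t hu)
    refine Ideal.pow_right_mono hle 2 ?_
    rw [← Ideal.map_pow]
    exact Ideal.mem_map_of_mem (b.stalkMap ξ').hom hsq
  let e := (asIso (r.stalkMap ξ')).commRingCatIsoToRingEquiv
  have h2 : FibrePP.ι M.p (r ξ') ϖ ∈ maximalIdeal (M.Z.presheaf.stalk (r ξ')) ^ 2 := by
    have h3 := Ideal.mem_map_of_mem (e.symm : M'.Z.presheaf.stalk ξ' →+* M.Z.presheaf.stalk (r ξ')) h1
    rw [Ideal.map_pow, show Ideal.map (e.symm : M'.Z.presheaf.stalk ξ' →+* M.Z.presheaf.stalk (r ξ'))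
        (maximalIdeal (M'.Z.presheaf.stalk ξ')) = maximalIdeal (M.Z.presheaf.stalk (r ξ')) from
        IsLocalRing.eq_maximalIdeal (Ideal.map_isMaximal_of_equiv e.symm),
      show (e.symm : M'.Z.presheaf.stalk ξ' →+* M.Z.presheaf.stalk (r ξ')) (FibrePP.ι M'.p ξ' ϖ) =
        FibrePP.ι M.p (r ξ') ϖ from e.injective (by
          rw [RingEquiv.coe_toRingHom, RingEquiv.apply_symm_apply]
          exact (ι_comp M'.p M.p r hr ξ' ϖ).symm)] at h3
    exact h3
  rw [hξ, show FibrePP.ι M.p (Models.genPtOf R (Over.mk M.p) Γ) =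
    Models.stalkHom R (Over.mk M.p) (Models.genPtOf R (Over.mk M.p) Γ) from ι_eq_stalkHom (Over.mk M.p) _] at h2
  let O := (Over.mk M.p).left.presheaf.stalk (Models.genPtOf R (Over.mk M.p) Γ)
  haveI : IsRegularLocalRing O := M.regular _
  have hgen := maximalIdeal_genPt Γ hm
  rw [hϖ.maximalIdeal_eq, Ideal.map_span, Set.image_singleton] at hgen
  have h0 : maximalIdeal O = ⊥ := by
    refine Submodule.eq_bot_of_le_smul_of_le_jacobson_bot (maximalIdeal O) _ (IsNoetherian.noetherian _) ?_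
      (IsLocalRing.maximalIdeal_le_jacobson _)
    rw [smul_eq_mul, ← sq]
    refine hgen.symm.le.trans ?_
    rw [Ideal.span_le, Set.singleton_subset_iff]
    exact h2
  rw [← hgen, Ideal.span_singleton_eq_bot] at h0
  haveI : Flat (Over.mk M.p).hom := M.flat
  have hreg := H26.FibreQuot.isSMulRegular_localMap (Over.mk M.p).hom (Models.genPtOf R (Over.mk M.p) Γ) hϖ.ne_zero
  exact one_ne_zero (hreg (show Models.stalkHom R (Over.mk M.p) _ ϖ * (1 : O) = Models.stalkHom R (Over.mk M.p) _ ϖ * 0 by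
    rw [h0, zero_mul, zero_mul]))

include hdim in
/-- A closed point dominated by a component with a rational normal point is rational. -/
theorem Model.surjective_resMap (M X M' : Model C f) (r : M'.Z ⟶ M.Z) (hr : r ≫ M.p = M'.p)
    (b : M'.Z ⟶ X.Z) (hb : b ≫ X.p = M'.p) (ξ' : M'.Z) [IsIso (r.stalkMap ξ')]
    (Γ : ArSurf.VertComp R (Over.mk M.p)) (hξ : r ξ' = Models.genPtOf R (Over.mk M.p) Γ)
    (a : Γ.curve.left) (hIC : IsIntegrallyClosed (Γ.curve.left.presheaf.stalk a))
    (ha : Function.Surjective (FibrePP.resMap (Γ.ι ≫ M.p) a))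
    (hx : IsClosed ({b ξ'} : Set X.Z)) (hxs : X.p (b ξ') = closedPoint R) :
    Function.Surjective (FibrePP.resMap X.p (b ξ')) := by
  haveI := X.isProper
  have key : ∀ z : M.Z, z = Models.genPtOf R (Over.mk M.p) Γ → ∀ w : M.Z.residueField z,
      (FibrePP.resMap M.p z).IsIntegralElem w → w ∈ (FibrePP.resMap M.p z).range := by
    rintro _ rfl w ⟨P, hP, hPw⟩
    let j : M.Z.residueField (Models.genPtOf R (Over.mk M.p) Γ) →+* Γ.curve.left.residueField (genericPoint Γ.curve.left) :=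
      (Γ.ι.residueFieldMap (genericPoint Γ.curve.left)).hom
    have hj : j.comp (FibrePP.resMap M.p (Models.genPtOf R (Over.mk M.p) Γ)) =
        FibrePP.resMap (Γ.ι ≫ M.p) (genericPoint Γ.curve.left) :=
      RingHom.ext fun s => resMap_comp (Γ.ι ≫ M.p) M.p Γ.ι rfl (genericPoint Γ.curve.left) s
    obtain ⟨s, hs⟩ := mem_range_of_integral (Γ.ι ≫ M.p) a hIC ha
      (by rw [Scheme.Hom.comp_apply]; exact Model.map_genPt hdim M Γ) (j w) ⟨P, hP, by
        rw [← hj, ← Polynomial.hom_eval₂, hPw, map_zero]⟩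
    exact ⟨s, j.injective (by rw [← hs, ← hj]; rfl)⟩
  intro z
  obtain ⟨w, hw⟩ := residueFieldMap_surjective r ξ' (ConcreteCategory.bijective_of_isIso (r.stalkMap ξ')).2
    ((b.residueFieldMap ξ').hom z)
  let jr : M.Z.residueField (r ξ') →+* M'.Z.residueField ξ' := (r.residueFieldMap ξ').hom
  let jb : X.Z.residueField (b ξ') →+* M'.Z.residueField ξ' := (b.residueFieldMap ξ').hom
  have hjr : jr.comp (FibrePP.resMap M.p (r ξ')) = FibrePP.resMap M'.p ξ' :=
    RingHom.ext fun s => resMap_comp M'.p M.p r hr ξ' s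
  have hjb : jb.comp (FibrePP.resMap X.p (b ξ')) = FibrePP.resMap M'.p ξ' :=
    RingHom.ext fun s => resMap_comp M'.p X.p b hb ξ' s
  obtain ⟨P, hP, hPz⟩ := isIntegral_resMap_of_closed X.p (b ξ') hx hxs z
  obtain ⟨s, hs⟩ := key (r ξ') hξ w ⟨P, hP, jr.injective (by
    rw [Polynomial.hom_eval₂, hjr, map_zero, show jr w = jb z from hw, ← hjb, ← Polynomial.hom_eval₂, hPz, map_zero])⟩
  refine ⟨s, jb.injective ?_⟩
  rw [← RingHom.comp_apply jb, hjb, ← hjr, RingHom.comp_apply, hs]
  exact hw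

include hdim in
/-- Given two components of multiplicity one with rational normal points, every model with irreducible special
fibre has a rational point at which the fibre is regular. -/
theorem Model.exists_rational_regular_point (M X : Model C f) {η : X.Z}
    (hηs : X.p η = closedPoint R) (hη : ∀ z : X.Z, X.p z = closedPoint R → η ⤳ z)
    (Γ₁ Γ₂ : ArSurf.VertComp R (Over.mk M.p))
    (hne : Models.genPtOf R (Over.mk M.p) Γ₁ ≠ Models.genPtOf R (Over.mk M.p) Γ₂)
    (hm₁ : Models.mult R (Over.mk M.p) Γ₁ = 1) (hm₂ : Models.mult R (Over.mk M.p) Γ₂ = 1)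
    (a₁ : Γ₁.curve.left) (h₁ : IsIntegrallyClosed (Γ₁.curve.left.presheaf.stalk a₁))
    (h₁' : Function.Surjective (FibrePP.resMap (Γ₁.ι ≫ M.p) a₁))
    (a₂ : Γ₂.curve.left) (h₂ : IsIntegrallyClosed (Γ₂.curve.left.presheaf.stalk a₂))
    (h₂' : Function.Surjective (FibrePP.resMap (Γ₂.ι ≫ M.p) a₂)) {ϖ : R} (hϖ : Irreducible ϖ) :
    ∃ x : X.Z, X.p x = closedPoint R ∧ IsClosed ({x} : Set X.Z) ∧
      Function.Surjective (FibrePP.resMap X.p x) ∧
      FibrePP.ι X.p x ϖ ∉ maximalIdeal (X.Z.presheaf.stalk x) ^ 2 := by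
  haveI := M.isIntegral
  haveI := M.isNoetherian
  haveI := X.isIntegral
  haveI := X.isNoetherian
  haveI := X.isProper
  haveI := M.isOpenImmersion
  let U := M.g.opensRange
  have hφ : (M.g.isoOpensRange.inv ≫ X.g) ≫ X.p = U.ι ≫ M.p := by
    rw [Category.assoc, X.sq.w, ← M.sq.w, ← Category.assoc]
    congr 1
    rw [Scheme.Hom.isoOpensRange_inv_comp]
  obtain ⟨Y', r, b, hr, hb, hag⟩ := MinModel.exists_extension M.regular (M.dim_le hdim) M.p X.p U
    ⟨_, genericPoint C, rfl⟩ (M.g.isoOpensRange.inv ≫ X.g) hφ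
  obtain ⟨⟨Zm, pm, gm, sqm, hmm⟩, em, e1, e2⟩ := Model.exists_model_of_seq hr M rfl
  change Zm = Y' at em
  subst em
  simp only [eqToHom_refl, Category.id_comp, Category.comp_id] at e1 e2
  let M' : Model C f := ⟨Zm, pm, gm, sqm, hmm⟩
  haveI := M'.isIntegral
  haveI : IsIntegral Zm := M'.isIntegral
  have hgm : gm ≫ b = X.g := by
    have hr' : Set.range gm ⊆ Set.range (r ⁻¹ᵁ U).ι := by
      rw [Scheme.Opens.range_ι]
      rintro _ ⟨a, rfl⟩
      exact ⟨a, by rw [← e2, Scheme.Hom.comp_apply]⟩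
    rw [← IsOpenImmersion.lift_fac (r ⁻¹ᵁ U).ι gm hr', Category.assoc, hag, ← Category.assoc]
    suffices IsOpenImmersion.lift (r ⁻¹ᵁ U).ι gm hr' ≫ (r ∣_ U) = M.g.isoOpensRange.hom by
      rw [this, Iso.hom_inv_id_assoc]
    rw [← cancel_mono U.ι, Category.assoc, morphismRestrict_ι, IsOpenImmersion.lift_fac_assoc, e2,
      Scheme.Hom.isoOpensRange_hom_ι]
  have hbp : b ≫ X.p = pm := hb.trans e1
  obtain ⟨hrP, hrbir⟩ := M'.proper_birational M r e1 e2
  haveI := hrP
  obtain ⟨hbP, hbbir⟩ := M'.proper_birational X b hbp hgm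
  haveI := hbP
  have lift : ∀ Γ : ArSurf.VertComp R (Over.mk M.p), Models.mult R (Over.mk M.p) Γ = 1 →
      ∃ ξ' : M'.Z, r ξ' = Models.genPtOf R (Over.mk M.p) Γ ∧ IsIso (r.stalkMap ξ') := fun Γ hm => by
    obtain ⟨ξ', -, hξ'⟩ := r.isClosedMap.specializingMap (a := genericPoint Zm)
      (show r (genericPoint Zm) ⤳ Models.genPtOf R (Over.mk M.p) Γ by
        rw [SurfSeq.map_generic r hrbir]; exact genericPoint_specializes _)
    refine ⟨ξ', hξ', RatUp.isIso_of_dim_le_one_normal r hrbir ξ'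
      (FrobTwist.isNormalScheme_of_regular M.regular _).2 ?_⟩
    rw [hξ']
    exact Model.dim_genPt_le hdim M Γ hm
  obtain ⟨ξ₁, hξ₁, hi₁⟩ := lift Γ₁ hm₁
  obtain ⟨ξ₂, hξ₂, hi₂⟩ := lift Γ₂ hm₂
  have hsp : ∀ (ξ : M'.Z) (Γ : ArSurf.VertComp R (Over.mk M.p)), r ξ = Models.genPtOf R (Over.mk M.p) Γ →
      X.p (b ξ) = closedPoint R := fun ξ Γ h => by
    rw [← Scheme.Hom.comp_apply, hbp, ← e1, Scheme.Hom.comp_apply, h]
    exact Model.map_genPt hdim M Γ
  have closed : ∀ (ξ : M'.Z), ¬ ringKrullDim (X.Z.presheaf.stalk (b ξ)) ≤ 1 → IsClosed ({b ξ} : Set X.Z) :=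
    fun ξ h => SurfSeq.closed_two (X.dim_le hdim) (SurfSeq.eq_two (X.dim_le hdim _) h)
  have low : ∀ z : X.Z, X.p z = closedPoint R → ringKrullDim (X.Z.presheaf.stalk z) ≤ 1 → z = η := fun z hz hd => by
    by_contra hne'
    rw [ringKrullDim_stalk_eq_coheight] at hd
    have hd' : Order.coheight z ≤ 1 := WithBot.coe_le_coe.1 hd
    have h1 : z < η := lt_iff_le_not_ge.2 ⟨hη z hz, fun h => hne' ((Specializes.antisymm h (hη z hz)).eq)⟩
    have h2 : η < genericPoint X.Z := lt_iff_le_not_ge.2 ⟨genericPoint_specializes η, fun h => by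
      have e : genericPoint X.Z = η := ((genericPoint_specializes η).antisymm h).eq
      have h3 : X.p (genericPoint X.Z) = genericPoint _ := X.mem_range.1 ⟨_, X.genericPoint_eq⟩
      rw [e, hηs] at h3
      exact H26.HorizDeg.generic_ne_closed h3.symm⟩
    have h4 := Order.coheight_add_one_le h1
    have h5 := Order.coheight_add_one_le h2
    have h6 : (2 : ℕ∞) ≤ Order.coheight z := by
      refine le_trans ?_ h4
      refine le_trans ?_ (add_le_add_left h5 1)
      rw [← one_add_one_eq_two]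
      exact add_le_add_left le_add_self 1
    exact absurd (h6.trans hd') (by decide)
  by_cases hd₁ : ringKrullDim (X.Z.presheaf.stalk (b ξ₁)) ≤ 1
  · by_cases hd₂ : ringKrullDim (X.Z.presheaf.stalk (b ξ₂)) ≤ 1
    · refine absurd ?_ hne
      rw [← hξ₁, ← hξ₂]
      have e : b ξ₁ = b ξ₂ := (low _ (hsp _ _ hξ₁) hd₁).trans (low _ (hsp _ _ hξ₂) hd₂).symm
      exact congrArg r (SurfSeq.eq_of_isIso b hbbir (z := ξ₂) (x := ξ₁) e.symm
        (RatUp.isIso_of_dim_le_one_normal b hbbir ξ₂ (FrobTwist.isNormalScheme_of_regular X.regular _).2 hd₂))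
    · exact ⟨b ξ₂, hsp _ _ hξ₂, closed _ hd₂,
        Model.surjective_resMap hdim M X M' r e1 b hbp ξ₂ Γ₂ hξ₂ a₂ h₂ h₂' (closed _ hd₂) (hsp _ _ hξ₂),
        Model.notMem_sq hdim M X M' r e1 b hbp ξ₂ Γ₂ hξ₂ hm₂ hϖ⟩
  · exact ⟨b ξ₁, hsp _ _ hξ₁, closed _ hd₁,
      Model.surjective_resMap hdim M X M' r e1 b hbp ξ₁ Γ₁ hξ₁ a₁ h₁ h₁' (closed _ hd₁) (hsp _ _ hξ₁),
      Model.notMem_sq hdim M X M' r e1 b hbp ξ₁ Γ₁ hξ₁ hm₁ hϖ⟩

end Groth.Agent.RegModel
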