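import Mathlib
import Groth.Agent.RegModel.Rational
import Groth.Agent.RegModel.Exists
import Groth.Agent.S2190
import Groth.Agent.S3322
import Groth.Agent.S3313
import Groth.Agent.S3347
import Groth.Agent.S3327
import Groth.Agent.S6542
import Groth.Agent.Pur21Fib.Main
import Groth.Agent.QCoh.DevissageP
import Groth.Agent.RegLoc6.Basic

/-!
# Minimal models in genus zero
-/

set_option autoImplicit false
set_option linter.style.haveILetI false
set_option linter.unusedSectionVars false
set_option backward.isDefEq.respectTransparency false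
set_option backward.isDefEq.respectTransparency.types false
set_option maxHeartbeats 1000000

universe u

open CategoryTheory CategoryTheory.Limits AlgebraicGeometry TopologicalSpace IsLocalRing
open Groth.Agent.MinModel (Model jη isOpenImmersion_jη range_jη)
open Groth.Agent.H23.StalkIdeal (sI sI_eq)

noncomputable section

namespace Groth.Agent.RegModel

variable {R : Type u} [CommRing R] [IsDomain R] [IsDiscreteValuationRing R]
  {C : Scheme.{u}} {f : C ⟶ Spec (CommRingCat.of (FractionRing R))} [IsIntegral C] [IsProper f]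
  (hdim : topologicalKrullDim C = 1)

include hdim in
/-- A regular proper model of a curve is two-dimensional. -/
theorem Model.dim_two (X : Model C f) : topologicalKrullDim X.Z = 2 := by
  haveI := X.isIntegral
  haveI := X.isProper
  haveI : IsLocallyNoetherian X.Z := X.isNoetherian.toIsLocallyNoetherian
  haveI := X.isOpenImmersion
  rw [topologicalKrullDim, Order.krullDim_eq_of_orderIso irreducibleSetEquivPoints]
  refine le_antisymm ?_ ?_
  · rw [Order.krullDim_eq_iSup_coheight_of_nonempty]
    refine WithBot.coe_le_coe.2 (iSup_le fun z => ?_)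
    have h := X.dim_le hdim z
    rw [ringKrullDim_stalk_eq_coheight] at h
    exact WithBot.coe_le_coe.1 h
  obtain ⟨c, hc⟩ : ∃ c : C, c ≠ genericPoint C := by
    by_contra hall
    simp only [not_exists, not_not] at hall
    haveI : Subsingleton C := ⟨fun a b => (hall a).trans (hall b).symm⟩
    have h0 : topologicalKrullDim C ≤ 0 := topologicalKrullDim_zero_of_discreteTopology _
    rw [hdim] at h0
    exact absurd h0 (by decide)
  have hpc : X.p (X.g c) ⤳ closedPoint R := IsLocalRing.specializes_closedPoint _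
  obtain ⟨z, hz, hzc⟩ := X.p.isClosedMap.specializingMap hpc
  have h1 : z < X.g c := lt_iff_le_not_ge.2 ⟨hz, fun h => by
    have e : X.g c = z := (hz.antisymm h).eq
    have h3 := X.mem_range.1 ⟨c, e⟩
    rw [hzc] at h3
    exact H26.HorizDeg.generic_ne_closed h3.symm⟩
  have h2 : X.g c < genericPoint X.Z := lt_iff_le_not_ge.2 ⟨genericPoint_specializes _, fun h => by
    have e : genericPoint X.Z = X.g c := ((genericPoint_specializes _).antisymm h).eq
    rw [← X.genericPoint_eq] at e
    exact hc (X.g.isOpenEmbedding.injective e).symm⟩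
  exact Order.LTSeries.length_le_krullDim (((RelSeries.singleton _ z).snoc (X.g c) h1).snoc (genericPoint X.Z) (by simpa using h2))

variable (hC : Curve.IsSmoothProperCurve (FractionRing R) C f) (hH0 : IsIso f.appTop)
  (hg : Models.curveGenus (FractionRing R) C f = 0)

include hdim hC hH0 hg in
/-- In genus zero the special fibre of a minimal model is an integral curve with vanishing `h¹`. -/
theorem Model.single_component (X : Model C f) (hmin : Models.IsMinimalModel R X.Z X.p C f) :
    ∃ Γ : ArSurf.VertComp R (Over.mk X.p),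
      Γ.ι.ker = Models.specialFibreIdeal R (Over.mk X.p) ∧ Models.h1 R (Over.mk X.p) Γ = 0 ∧
        ∀ z : X.Z, X.p z = closedPoint R → Models.genPtOf R (Over.mk X.p) Γ ⤳ z := by
  haveI := X.isIntegral
  haveI := X.isProper
  haveI : IsIntegral (Over.mk X.p).left := X.isIntegral
  haveI : IsProper (Over.mk X.p).hom := X.isProper
  haveI : Flat (Over.mk X.p).hom := X.flat
  obtain ⟨n, Γ, hΓ⟩ := H26.CompList.exists_componentList (X := Over.mk X.p) (Model.dim_two hdim X)
  obtain ⟨heff, hprod⟩ := S3313.result R C X.Z f X.p hC X.model.1 X.model.2.2 Γ hΓ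
  have hinv : ∀ i, ∃ L : X.Z.Modules, ClSub.IsInverseOf L (ClSub.idealMod (Γ i).ι.ker) := fun i => by
    obtain ⟨L, -, hL⟩ := H23.PicInv.exists_inverse (H26.IdealCl.isInvertible_idealMod (heff i))
    letI := H23.PicMul.clMonoid X.Z
    refine ⟨L, H23.PicMul.cl_eq_iff.1 ?_⟩
    rw [H23.PicMul.cl_tensor, mul_comm, ← H23.PicMul.cl_tensor]
    exact H23.PicMul.cl_eq_iff.2 hL
  choose L hL using hinv
  obtain ⟨T, hTm, hTa, hTw, hTg, hTgen⟩ := S3322.result R C X.Z f X.p hC hH0 X.model Γ hΓ L hL
  have hTmin : T.IsMinimal := fun i hi => by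
    refine (S3347.result R C X.Z f X.p hC hH0 X.model Γ hΓ L hL).1 hmin i ⟨?_, ?_⟩
    · have h := hTg i
      rw [hi.1, mul_zero] at h
      exact_mod_cast h.symm
    · rw [← hTa i i, hi.2, hTw i]
  obtain ⟨hn, hvals⟩ := S2190.result T hTmin (by rw [hTgen, hg]; rfl)
  subst hn
  refine ⟨Γ 0, ?_, ?_, fun z hz => ?_⟩
  · have h1 : Models.mult R (Over.mk X.p) (Γ 0) = 1 := by
      have h := hTm 0
      rw [(hvals 0).1] at h
      exact_mod_cast h.symm
    rw [hprod, Fin.prod_univ_one, h1, pow_one]
  · have h := hTg 0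
    rw [(hvals 0).2.2.2, mul_zero] at h
    exact_mod_cast h.symm
  · obtain ⟨i, hi⟩ := H26.RedFibre.exists_mem_component hΓ (show z ∈ Models.specialFibreSet R (Over.mk X.p) from hz)
    obtain rfl := Subsingleton.elim i 0
    rw [H26.FibreIdeal.range_eq_closure (Over.mk X.p) Γ hΓ 0] at hi
    exact specializes_iff_mem_closure.2 hi

theorem sI_specialFibreIdeal (X : Over (Spec (CommRingCat.of R))) {ϖ : R} (hϖ : Irreducible ϖ) (x : X.left) :
    sI (Models.specialFibreIdeal R X) x = Ideal.span {Models.stalkHom R X x ϖ} := by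
  obtain ⟨U, hU, hxU, -⟩ := exists_isAffineOpen_mem_and_subset (x := x) (U := ⊤) trivial
  rw [sI_eq _ ⟨U, hU⟩ hxU, CDivEq.stk, H26.FibreIdeal.specialFibreIdeal_ideal X hϖ.maximalIdeal_eq ⟨U, hU⟩,
    Ideal.map_span, Set.image_singleton]
  congr 2
  exact TopCat.Presheaf.germ_res_apply X.left.presheaf (homOfLE (le_top : U ≤ ⊤)) x hxU (Coh.toGlobal X.hom ϖ)

/-- A component equal to the whole fibre is the special fibre. -/
theorem exists_fibre_iso {X : Over (Spec (CommRingCat.of R))} (Γ : ArSurf.VertComp R X)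
    (h : Γ.ι.ker = Models.specialFibreIdeal R X) :
    ∃ e : Models.specialFibre R X.left X.hom ≅ Γ.curve.left,
      e.hom ≫ Γ.curve.hom = pullback.snd X.hom
        (Spec.map (CommRingCat.ofHom (algebraMap R (IsLocalRing.ResidueField R)))) := by
  let i : Spec (CommRingCat.of (IsLocalRing.ResidueField R)) ⟶ Spec (CommRingCat.of R) :=
    Spec.map (CommRingCat.ofHom (algebraMap R (IsLocalRing.ResidueField R)))
  haveI : IsClosedImmersion i :=
    IsClosedImmersion.spec_of_surjective _ (Ideal.Quotient.mk_surjective (I := maximalIdeal R))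
  have hi : i.ker = Curv2.idealSheaf R (maximalIdeal R) := RegBlow6.ker_specMk _
  have hk : (pullback.fst X.hom i).ker = Γ.ι.ker := by
    rw [Scheme.IdealSheafData.ker_fst_of_isClosedImmersion i X.hom, hi, h]
    rfl
  let e := IsClosedImmersion.lift Γ.ι (pullback.fst X.hom i) hk.ge
  let e' := IsClosedImmersion.lift (pullback.fst X.hom i) Γ.ι hk.le
  have he : e ≫ Γ.ι = pullback.fst X.hom i := IsClosedImmersion.lift_fac _ _ _
  have he' : e' ≫ pullback.fst X.hom i = Γ.ι := IsClosedImmersion.lift_fac _ _ _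
  refine ⟨⟨e, e', (cancel_mono (pullback.fst X.hom i)).1 (by rw [Category.assoc, he', he, Category.id_comp]),
    (cancel_mono Γ.ι).1 (by rw [Category.assoc, he, he', Category.id_comp])⟩, ?_⟩
  refine (cancel_mono i).1 ?_
  show (e ≫ Γ.curve.hom) ≫ i = pullback.snd X.hom i ≫ i
  rw [Category.assoc, show Γ.curve.hom ≫ i = Γ.ι ≫ X.hom from Γ.w.symm, ← Category.assoc, he, pullback.condition]

attribute [local instance] Curv2.resAlgebra

/-- An integral fibre with vanishing `h¹` and a rational regular point is the projective line. -/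
theorem fibre_iso_line {X : Over (Spec (CommRingCat.of R))} [IsProper X.hom]
    (hreg : ∀ z : X.left, IsRegularLocalRing (X.left.presheaf.stalk z))
    (Γ : ArSurf.VertComp R X) (hker : Γ.ι.ker = Models.specialFibreIdeal R X) (h1 : Models.h1 R X Γ = 0)
    (a : Γ.curve.left) (hx : IsClosed ({Γ.ι a} : Set X.left))
    (hres : Function.Surjective (FibrePP.resMap X.hom (Γ.ι a))) {ϖ : R} (hϖ : Irreducible ϖ)
    (hsq : FibrePP.ι X.hom (Γ.ι a) ϖ ∉ maximalIdeal (X.left.presheaf.stalk (Γ.ι a)) ^ 2) :
    ∃ e : Models.specialFibre R X.left X.hom ≅ CohB1.ProjSpace 1 (IsLocalRing.ResidueField R),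
      e.hom ≫ CohB1.ProjSpace.toSpec 1 (IsLocalRing.ResidueField R) = pullback.snd X.hom
        (Spec.map (CommRingCat.ofHom (algebraMap R (IsLocalRing.ResidueField R)))) := by
  let k := IsLocalRing.ResidueField R
  let Y := Γ.curve.left
  haveI : IsProper (Γ.curve.left ↘ Spec (CommRingCat.of k)) := H26.ArInter.isProper_curve Γ
  haveI := CurveCohLib.isNoetherian_of_proper (k := k) (X := Γ.curve.left)
  haveI : Module.Finite k (Coh.HH Γ.curve.left (Coh.structureModule Γ.curve.left) 1) :=
    CurveCohLib.finite_HH (k := k) (X := Γ.curve.left) QCoh.isCoh_structureModule' 1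
  have hh1 : Subsingleton (Coh.HH Γ.curve.left (Coh.structureModule Γ.curve.left) 1) :=
    Module.finrank_zero_iff.1 h1
  -- the stalk is regular
  have hcl : IsClosed ({a} : Set Γ.curve.left) := by
    have e : Γ.ι ⁻¹' {Γ.ι a} = ({a} : Set Γ.curve.left) := by
      rw [← Set.image_singleton, Γ.ι.isClosedEmbedding.injective.preimage_image]
    exact e ▸ hx.preimage Γ.ι.continuous
  have hxs : X.hom (Γ.ι a) = closedPoint R := by
    rw [← Scheme.Hom.comp_apply, Γ.w, Scheme.Hom.comp_apply]
    generalize Γ.curve.hom a = w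
    refine PrimeSpectrum.ext ?_
    show Ideal.comap (IsLocalRing.residue R) w.asIdeal = IsLocalRing.maximalIdeal R
    rw [(Ideal.eq_bot_or_top w.asIdeal).resolve_right w.isPrime.ne_top, ← RingHom.ker_eq_comap_bot,
      IsLocalRing.ker_residue]
  have hmem : FibrePP.ι X.hom (Γ.ι a) ϖ ∈ maximalIdeal (X.left.presheaf.stalk (Γ.ι a)) :=
    (FibrePP.mem_point_iff X.hom (Γ.ι a) ϖ).1 (by
      rw [hxs]
      exact (IsLocalRing.mem_maximalIdeal ϖ).2 hϖ.not_isUnit)
  have hIC : IsIntegrallyClosed (Γ.curve.left.presheaf.stalk a) := by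
    haveI := hreg (Γ.ι a)
    have hR := (RegLoc6.isRegularLocalRing_quot_and hmem hsq).1
    have hk : RingHom.ker (Γ.ι.stalkMap a).hom = Ideal.span {FibrePP.ι X.hom (Γ.ι a) ϖ} := by
      rw [PointBlow.ker_stalkMap_closed, hker, sI_specialFibreIdeal X hϖ, ι_eq_stalkHom]
    let e := (Ideal.quotEquivOfEq hk.symm).trans (RingHom.quotientKerEquivOfSurjective (Γ.ι.stalkMap_surjective a))
    haveI := hR
    exact (normal_of_regular (IsRegularLocalRing.of_ringEquiv e)).2
  have hfin : Module.finrank k (Γ.curve.left.residueField a) = 1 := by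
    have hbij : Function.Bijective (algebraMap k (Γ.curve.left.residueField a)) := by
      refine ⟨RingHom.injective _, fun z => ?_⟩
      obtain ⟨w, hw⟩ := residueFieldMap_surjective Γ.ι a (Γ.ι.stalkMap_surjective a) z
      obtain ⟨r, hr⟩ := hres w
      refine ⟨IsLocalRing.residue R r, ?_⟩
      rw [← hw, ← hr, resMap_comp (Γ.curve.hom ≫ Spec.map (CommRingCat.ofHom (IsLocalRing.residue R))) X.hom Γ.ι Γ.w a r]
      show Curv2.resMap k Γ.curve.left a (IsLocalRing.residue R r) = _
      have e1 : CommRingCat.ofHom (IsLocalRing.residue R) ≫ CommRingCat.ofHom (Curv2.resMap k Γ.curve.left a) =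
          CommRingCat.ofHom (FibrePP.resMap (Γ.curve.hom ≫ Spec.map (CommRingCat.ofHom (IsLocalRing.residue R))) a) := by
        apply Spec.map_injective
        rw [Spec.map_comp, FibrePP.specMap_resMap,
          show CommRingCat.ofHom (Curv2.resMap k Γ.curve.left a) = CommRingCat.ofHom (FibrePP.resMap Γ.curve.hom a) from
            congrArg CommRingCat.ofHom (show Curv2.resMap k Γ.curve.left a = FibrePP.resMap Γ.curve.hom a from by
              rw [FibrePP.resMap, ι_eq_stalkHom Γ.curve a]; rfl),
          FibrePP.specMap_resMap, Category.assoc]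
      exact congrArg (fun φ => φ.hom r) e1
    exact ((LinearEquiv.ofBijective (Algebra.linearMap k (Γ.curve.left.residueField a)) hbij).finrank_eq).symm.trans (Module.finrank_self k)
  obtain ⟨e', he'⟩ := S6542.result k Γ.curve.left Γ.dim_eq hh1 {a}
    (fun y hy => by rw [Finset.mem_singleton.1 hy]; exact hcl)
    (fun y hy => by rw [Finset.mem_singleton.1 hy]; exact hIC)
    (by rw [Finset.gcd_singleton, hfin]; rfl)
  obtain ⟨e, he⟩ := exists_fibre_iso Γ hker
  exact ⟨e ≪≫ e', by rw [Iso.trans_hom, Category.assoc, he']; exact he⟩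

end Groth.Agent.RegModel
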