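import Mathlib
import Groth.Agent.RegModel.Genus0
import Groth.Agent.CurveCover.Line
import Groth.Agent.S3330
import Groth.Agent.S3338
import Groth.Prelude.Def_ModelsSS

/-!
# Non-uniqueness of minimal models
-/

set_option autoImplicit false
set_option linter.style.haveILetI false
set_option linter.unusedSectionVars false
set_option backward.isDefEq.respectTransparency false
set_option backward.isDefEq.respectTransparency.types false
set_option maxHeartbeats 1000000

universe u

open CategoryTheory CategoryTheory.Limits AlgebraicGeometry TopologicalSpace IsLocalRing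
open Groth.Agent.MinModel (Model jη isOpenImmersion_jη range_jη)

noncomputable section

namespace Groth.Agent.RegModel

variable {R : Type u} [CommRing R] [IsDomain R] [IsDiscreteValuationRing R]
  {C : Scheme.{u}} {f : C ⟶ Spec (CommRingCat.of (FractionRing R))} [IsIntegral C] [IsProper f]
  (hdim : topologicalKrullDim C = 1)
  (hC : Curve.IsSmoothProperCurve (FractionRing R) C f) (hH0 : IsIso f.appTop)

include hdim in
/-- With disjoint exceptional curves minimal models are isomorphic. -/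
theorem exists_iso_of_disjoint (hd : MinModel.DisjointExc (R := R) C f) (M₁ M₂ : Model C f)
    (h₁ : Models.IsMinimalModel R M₁.Z M₁.p C f) (h₂ : Models.IsMinimalModel R M₂.Z M₂.p C f) :
    ∃ e : M₁.Z ≅ M₂.Z, e.hom ≫ M₂.p = M₁.p ∧ M₁.g ≫ e.hom = M₂.g := by
  obtain ⟨b, hb, hgb⟩ := MinModel.exists_hom_of_disjoint hdim hd M₂ M₁ h₂
  obtain ⟨b', hb', hgb'⟩ := MinModel.exists_hom_of_disjoint hdim hd M₁ M₂ h₁
  exact ⟨{ hom := b
           inv := b'
           hom_inv_id := MinModel.Model.hom_ext M₁ M₁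
             (show (b ≫ b') ≫ M₁.p = M₁.p by rw [Category.assoc, hb', hb]) (Category.id_comp M₁.p)
             (show M₁.g ≫ b ≫ b' = M₁.g ≫ 𝟙 _ by rw [reassoc_of% hgb, hgb', Category.comp_id])
           inv_hom_id := MinModel.Model.hom_ext M₂ M₂
             (show (b' ≫ b) ≫ M₂.p = M₂.p by rw [Category.assoc, hb, hb']) (Category.id_comp M₂.p)
             (show M₂.g ≫ b' ≫ b = M₂.g ≫ 𝟙 _ by rw [reassoc_of% hgb', hgb, Category.comp_id]) }, hb, hgb⟩

include hdim hC hH0 in
/-- If minimal models are not unique, every minimal model has a line as special fibre. -/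
theorem line_of_not_unique (hg : Models.curveGenus (FractionRing R) C f = 0) (M₁ M₂ X : Model C f)
    (h₁ : Models.IsMinimalModel R M₁.Z M₁.p C f) (h₂ : Models.IsMinimalModel R M₂.Z M₂.p C f)
    (hne : ∀ e : M₁.Z ≅ M₂.Z, e.hom ≫ M₂.p = M₁.p → M₁.g ≫ e.hom ≠ M₂.g)
    (hmin : Models.IsMinimalModel R X.Z X.p C f) :
    ∃ e : Models.specialFibre R X.Z X.p ≅ CohB1.ProjSpace 1 (IsLocalRing.ResidueField R),
      e.hom ≫ CohB1.ProjSpace.toSpec 1 (IsLocalRing.ResidueField R) =
        pullback.snd X.p (Spec.map (CommRingCat.ofHom (algebraMap R (IsLocalRing.ResidueField R)))) := by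
  have hnd : ¬ MinModel.DisjointExc (R := R) C f := fun hd => by
    obtain ⟨e, he, he'⟩ := exists_iso_of_disjoint hdim hd M₁ M₂ h₁ h₂
    exact hne e he he'
  simp only [MinModel.DisjointExc, not_forall] at hnd
  obtain ⟨M, Γ₁, Γ₂, hE₁, hE₂, hrange, hmeet⟩ := hnd
  haveI : IsIntegral (Over.mk M.p).left := M.isIntegral
  haveI : IsProper (Over.mk M.p).hom := M.isProper
  haveI : Flat (Over.mk M.p).hom := M.flat
  obtain ⟨n, Γ, hΓ⟩ := H26.CompList.exists_componentList (X := Over.mk M.p) (Model.dim_two hdim M)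
  obtain ⟨i, hi⟩ := H26.InterForm.exists_same_range hΓ Γ₁
  obtain ⟨j, hj⟩ := H26.InterForm.exists_same_range hΓ Γ₂
  have hij : i ≠ j := fun h => hrange (hi.trans (h ▸ hj.symm))
  obtain ⟨-, hm, hline, ⟨x₀, hx₀, -, hres₀⟩, -⟩ := S3327.result R C M.Z f M.p hC hH0 M.model Γ hΓ i j hij
    (H26.ExcTransport.isExcCurve_of_range hi hE₁) (H26.ExcTransport.isExcCurve_of_range hj hE₂)
    (hi ▸ hj ▸ hmeet)
  have pt : ∀ l, x₀ ∈ Set.range (Γ l).ι.base → ∃ a : (Γ l).curve.left,
      IsIntegrallyClosed ((Γ l).curve.left.presheaf.stalk a) ∧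
      Function.Surjective (FibrePP.resMap ((Γ l).ι ≫ M.p) a) := by
    rintro l ⟨a, ha⟩
    refine ⟨a, ?_, fun z => ?_⟩
    · obtain ⟨e, -⟩ := hline l
      exact (normal_of_iso e.inv (CurveCover.isNormal_line (IsLocalRing.ResidueField R)) a).2
    · obtain ⟨w, hw⟩ := residueFieldMap_surjective (Γ l).ι a ((Γ l).ι.stalkMap_surjective a) z
      have hres : Function.Surjective (FibrePP.resMap M.p ((Γ l).ι a)) := by
        have h := ι_eq_stalkHom (Over.mk M.p) x₀
        rw [show (Γ l).ι a = x₀ from ha]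
        rw [FibrePP.resMap, show FibrePP.ι M.p x₀ = Models.stalkHom R (Over.mk M.p) x₀ from h]
        exact hres₀
      obtain ⟨r, hr⟩ := hres w
      exact ⟨r, by rw [← hw, ← hr]; exact (resMap_comp ((Γ l).ι ≫ M.p) M.p (Γ l).ι rfl a r).symm⟩
  obtain ⟨a₁, ha₁, ha₁'⟩ := pt i (hx₀.ge rfl).1
  obtain ⟨a₂, ha₂, ha₂'⟩ := pt j (hx₀.ge rfl).2
  obtain ⟨ΓX, hker, hh1, hη⟩ := Model.single_component hdim hC hH0 hg X hmin
  obtain ⟨ϖ, hϖ⟩ := IsDiscreteValuationRing.exists_irreducible R
  obtain ⟨x, hxs, hxc, hres, hsq⟩ := Model.exists_rational_regular_point hdim M X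
    (Model.map_genPt hdim X ΓX) hη (Γ i) (Γ j)
    (fun h => hij (H26.FibreIdeal.genPt_injective (Over.mk M.p) Γ hΓ h)) (hm i) (hm j)
    a₁ ha₁ ha₁' a₂ ha₂ ha₂' hϖ
  obtain ⟨a, rfl⟩ : x ∈ Set.range ΓX.ι :=
    (hη x hxs).mem_closed ΓX.ι.isClosedEmbedding.isClosed_range ⟨_, rfl⟩
  haveI : IsProper (Over.mk X.p).hom := X.isProper
  exact fibre_iso_line (X := Over.mk X.p) X.regular ΓX hker hh1 a hxc hres hϖ hsq

omit [IsIntegral C] in
/-- A model whose special fibre is a line is smooth. -/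
theorem smooth_of_line [Smooth f] (X : Model C f)
    (e : Models.specialFibre R X.Z X.p ≅ CohB1.ProjSpace 1 (IsLocalRing.ResidueField R))
    (he : e.hom ≫ CohB1.ProjSpace.toSpec 1 (IsLocalRing.ResidueField R) =
      pullback.snd X.p (Spec.map (CommRingCat.ofHom (algebraMap R (IsLocalRing.ResidueField R))))) :
    Smooth X.p := by
  haveI := X.isProper
  haveI := X.flat
  haveI : IsLocallyNoetherian (Spec (CommRingCat.of R)) := inferInstance
  haveI : LocallyOfFinitePresentation X.p := inferInstance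
  refine Pur21Fib.smooth_of_flat_of_fibers X.p fun s => ?_
  rcases eq_generic_or_closed s with hs | hs
  · exact (Pur21Fib.smooth_fiber_iff_of_square (h := X.p) (s := s) (K := FractionRing R) (a := jη R)
      (fun t => (H26.HorizDeg.range_specMap_fraction t).trans hs.symm) (p := X.g) (q := f) X.sq).2 ‹_›
  · refine (Pur21Fib.smooth_fiber_iff_of_square (h := X.p) (s := s) (K := IsLocalRing.ResidueField R)
      (a := Spec.map (CommRingCat.ofHom (algebraMap R (IsLocalRing.ResidueField R))))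
      (fun t => ?_) (p := pullback.fst _ _)
      (q := pullback.snd X.p (Spec.map (CommRingCat.ofHom (algebraMap R (IsLocalRing.ResidueField R)))))
      (IsPullback.of_hasPullback _ _)).2 ?_
    · rw [hs]
      refine PrimeSpectrum.ext ?_
      show Ideal.comap (IsLocalRing.residue R) t.asIdeal = IsLocalRing.maximalIdeal R
      rw [(Ideal.eq_bot_or_top t.asIdeal).resolve_right t.isPrime.ne_top, ← RingHom.ker_eq_comap_bot,
        IsLocalRing.ker_residue]
    · haveI := CurveEmbed.smooth_toSpec 1 (IsLocalRing.ResidueField R)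
      rw [← he]
      infer_instance

include hdim hC hH0 in
/-- Minimal models of curves with good reduction are smooth. -/
theorem smooth_of_goodReduction (hgood : Models.HasGoodReduction R C f) (X : Model C f)
    (hmin : Models.IsMinimalModel R X.Z X.p C f) : Smooth X.p := by
  obtain ⟨Z₀, p₀, hM₀, hP₀, hS₀⟩ := hgood
  haveI := hP₀
  haveI := hS₀
  haveI : Smooth f := hC.2.1
  have hmin₀ := S3338.result R C Z₀ f p₀ hC hH0 hM₀
  obtain ⟨-, -, -, g₀, hg₀⟩ := hM₀
  let M₀ : Model C f := ⟨Z₀, p₀, g₀, hg₀, hmin₀.1⟩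
  have fin : ∀ e : X.Z ≅ M₀.Z, e.hom ≫ M₀.p = X.p → Smooth X.p := fun e he => by
    rw [← he]
    haveI : Smooth M₀.p := hS₀
    infer_instance
  rcases Nat.eq_zero_or_pos (Models.curveGenus (FractionRing R) C f) with hg | hg
  · by_cases hne : ∃ e : X.Z ≅ M₀.Z, e.hom ≫ M₀.p = X.p ∧ X.g ≫ e.hom = M₀.g
    · obtain ⟨e, he, -⟩ := hne
      exact fin e he
    · obtain ⟨e, he⟩ := line_of_not_unique hdim hC hH0 hg X M₀ X hmin hmin₀
        (fun e he h => hne ⟨e, he, h⟩) hmin
      exact smooth_of_line X e he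
  · obtain ⟨e, ⟨he, -⟩, -⟩ := S3330.result R C X.Z Z₀ f X.p p₀ hC hH0 hg hmin hmin₀ X.g X.sq g₀ hg₀
    exact fin e he

end Groth.Agent.RegModel
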